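import Groth.Agent.EtSect.Locus
import Groth.Prelude.Def_EtShriek2
import Mathlib

/-!
Sections of filtered colimits of abelian etale sheaves for index categories one universe up.
-/

set_option autoImplicit false
set_option backward.isDefEq.respectTransparency false
set_option linter.style.haveILetI false

universe u

open CategoryTheory CategoryTheory.Limits AlgebraicGeometry Opposite

namespace Groth.Agent.EtColimH

open Groth.Agent.EtSect

variable {S : Scheme.{u}}

theorem exists_of_mem {U : S.Etale} {R : Sieve U} (hR : R ∈ S.smallEtaleTopology U) (x : U.left) :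
    ∃ (W : S.Etale) (g : W ⟶ U), R.arrows g ∧ x ∈ Set.range g.left := by
  obtain ⟨α, T, g, rfl⟩ := R.exists_eq_ofArrows
  rw [Scheme.ofArrows_mem_smallEtaleTopology_iff] at hR
  obtain ⟨i, hi⟩ := Set.mem_iUnion.mp (hR.ge (Set.mem_univ x))
  exact ⟨T i, g i, Sieve.ofArrows_mk _ _ i, hi⟩

/-- gluing of sections -/
theorem exists_amalg (G : EtCoh.Ab S) {P : S.Etale} {ι : Type*} (Z : ι → S.Etale) (π : ∀ i, Z i ⟶ P)
    (hc : ∀ p, ∃ i, p ∈ Set.range (π i).left) (t : ∀ i, EtCoh.sect G (Z i))
    (h : ∀ i k (T : S.Etale) (a : T ⟶ Z i) (b : T ⟶ Z k), a ≫ π i = b ≫ π k →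
      G.obj.map a.op (t i) = G.obj.map b.op (t k)) :
    ∃ s : EtCoh.sect G P, ∀ i, G.obj.map (π i).op s = t i := by
  have hmem : Sieve.ofArrows Z π ∈ S.smallEtaleTopology P := by
    rw [Scheme.ofArrows_mem_smallEtaleTopology_iff]
    exact Set.eq_univ_of_forall fun p => Set.mem_iUnion.mpr (hc p)
  have hs : Presieve.IsSheafFor (G.obj ⋙ forget AddCommGrpCat.{u + 1}) (Presieve.ofArrows Z π) := by
    rw [Presieve.isSheafFor_iff_generate]
    exact (isSheaf_iff_isSheaf_of_type _ _).mp
      ((sheafCompose S.smallEtaleTopology (forget AddCommGrpCat.{u + 1})).obj G).property _ hmem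
  rw [Presieve.isSheafFor_arrows_iff] at hs
  obtain ⟨s, hs, -⟩ := hs t h
  exact ⟨s, hs⟩

variable {J : Type (u + 1)} [SmallCategory J] [IsFiltered J] {K : J ⥤ EtCoh.Ab S} {c : Cocone K} (hc : IsColimit c)

include hc in
theorem exists_cmp :
    ∃ (c' : Cocone (K ⋙ sheafToPresheaf S.smallEtaleTopology AddCommGrpCat.{u + 1})) (_ : IsColimit c')
      (θ : c'.pt ⟶ c.pt.obj), (∀ j, c'.ι.app j ≫ θ = (c.ι.app j).hom) ∧
        Presheaf.IsLocallyInjective S.smallEtaleTopology θ ∧ Presheaf.IsLocallySurjective S.smallEtaleTopology θ := by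
  let c' := colimit.cocone (K ⋙ sheafToPresheaf S.smallEtaleTopology AddCommGrpCat.{u + 1})
  let e := (Sheaf.isColimitSheafifyCocone c' (colimit.isColimit _)).coconePointUniqueUpToIso hc
  haveI : IsIso e.hom.hom := inferInstanceAs (IsIso ((sheafToPresheaf _ _).map e.hom))
  refine ⟨c', colimit.isColimit _, toSheafify S.smallEtaleTopology c'.pt ≫ e.hom.hom, fun j => ?_, ?_, ?_⟩
  · rw [← Category.assoc, ← Sheaf.sheafifyCocone_ι_app_val]
    exact congrArg (fun m => m.hom)
      (IsColimit.comp_coconePointUniqueUpToIso_hom (Sheaf.isColimitSheafifyCocone c' (colimit.isColimit _)) hc j)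
  · infer_instance
  · infer_instance

include hc in
/-- a section killed in the colimit is locally killed at a finite stage -/
theorem exists_local_zero {U : S.Etale} {j : J} (s : EtCoh.sect (K.obj j) U)
    (h : (c.ι.app j).hom.app (op U) s = 0) (x : U.left) :
    ∃ (W : S.Etale) (g : W ⟶ U), x ∈ Set.range g.left ∧
      ∃ (k : J) (a : j ⟶ k), (K.map a).hom.app (op W) ((K.obj j).obj.map g.op s) = 0 := by
  obtain ⟨c', hc', θ, hθ, hi, -⟩ := exists_cmp hc
  have h0 : θ.app (op U) ((c'.ι.app j).app (op U) s) = θ.app (op U) 0 := by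
    rw [map_zero]
    exact (ConcreteCategory.congr_hom (congrArg (fun m => m.app (op U)) (hθ j)) s).trans h
  obtain ⟨W, g, hg, hx⟩ := exists_of_mem (Presheaf.equalizerSieve_mem S.smallEtaleTopology θ _ _ h0) x
  refine ⟨W, g, hx, ?_⟩
  change c'.pt.map g.op ((c'.ι.app j).app (op U) s) = c'.pt.map g.op 0 at hg
  rw [map_zero] at hg
  replace hg : (c'.ι.app j).app (op W) ((K.obj j).obj.map g.op s) = 0 :=
    (NatTrans.naturality_apply (c'.ι.app j) g.op s).trans hg
  have hW := isColimitOfPreserves ((evaluation S.Etaleᵒᵖ AddCommGrpCat.{u + 1}).obj (op W)) hc'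
  obtain ⟨k, a, b, hab⟩ := (Concrete.isColimit_rep_eq_iff_exists _ hW ((K.obj j).obj.map g.op s) 0).mp
    (hg.trans (map_zero ((c'.ι.app j).app (op W)).hom).symm)
  exact ⟨k, a, hab.trans (map_zero ((K.map b).hom.app (op W)).hom)⟩

include hc in
/-- sections of the colimit locally come from finite stages -/
theorem exists_local_rep {U : S.Etale} (t : EtCoh.sect c.pt U) (x : U.left) :
    ∃ (W : S.Etale) (g : W ⟶ U), x ∈ Set.range g.left ∧
      ∃ (j : J) (s : EtCoh.sect (K.obj j) W), (c.ι.app j).hom.app (op W) s = c.pt.obj.map g.op t := by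
  obtain ⟨c', hc', θ, hθ, -, hs⟩ := exists_cmp hc
  obtain ⟨W, g, ⟨a, ha⟩, hx⟩ := exists_of_mem (hs.imageSieve_mem t) x
  refine ⟨W, g, hx, ?_⟩
  have hW := isColimitOfPreserves ((evaluation S.Etaleᵒᵖ AddCommGrpCat.{u + 1}).obj (op W)) hc'
  obtain ⟨j, s, rfl⟩ := Concrete.isColimit_exists_rep _ hW a
  exact ⟨j, s, (ConcreteCategory.congr_hom (congrArg (fun m => m.app (op W)) (hθ j)) s).symm.trans ha⟩

include hc in
/-- a section with quasi-compact support killed in the colimit is killed at a finite stage -/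
theorem exists_zero_of_isCompact {U : S.Etale} {j : J} (s : EtCoh.sect (K.obj j) U)
    (hs : IsCompact (EtShriek.sectSupp (K.obj j) U s)) (h : (c.ι.app j).hom.app (op U) s = 0) :
    ∃ (k : J) (a : j ⟶ k), (K.map a).hom.app (op U) s = 0 := by
  classical
  choose W g hx k a hz using exists_local_zero hc s h
  obtain ⟨F, hF⟩ := hs.elim_finite_subcover (fun x => Set.range (g x).left)
    (fun x => by haveI := etale_left (g x); exact (g x).left.isOpenMap.isOpen_range)
    (fun x _ => Set.mem_iUnion.mpr ⟨x, hx x⟩)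
  have hfin : ∀ G : Finset U.left, ∃ (m : J) (b : j ⟶ m), ∀ x ∈ G,
      (K.map b).hom.app (op (W x)) ((K.obj j).obj.map (g x).op s) = 0 := by
    intro G
    induction G using Finset.induction_on with
    | empty => exact ⟨j, 𝟙 j, by simp⟩
    | insert x G _ ih =>
      obtain ⟨m, b, hb⟩ := ih
      obtain ⟨l, u, v, huv⟩ := IsFiltered.span b (a x)
      refine ⟨l, b ≫ u, fun y hy => ?_⟩
      rcases Finset.mem_insert.mp hy with rfl | hy
      · rw [huv, Functor.map_comp]
        exact (congrArg ((K.map v).hom.app (op (W y))) (hz y)).trans (map_zero _)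
      · rw [Functor.map_comp]
        exact (congrArg ((K.map u).hom.app (op (W y))) (hb y hy)).trans (map_zero _)
  obtain ⟨m, b, hb⟩ := hfin F
  refine ⟨m, b, ?_⟩
  by_cases hne : Nonempty U.left
  · refine eq_zero_of_cover (K.obj m) _ fun v => ?_
    by_cases hv : v ∈ EtShriek.sectSupp (K.obj j) U s
    · obtain ⟨x, hxF, hvx⟩ := Set.mem_iUnion₂.mp (hF hv)
      refine ⟨W x, g x, hvx, ?_⟩
      rw [← NatTrans.naturality_apply]
      exact hb x hxF
    · obtain ⟨W', g', hg', h0⟩ := (mem_iff (K.obj j) s v).mp hv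
      refine ⟨W', g', hg', ?_⟩
      rw [← NatTrans.naturality_apply, h0, map_zero]
  · exact eq_zero_of_cover (K.obj m) _ fun v => absurd ⟨v⟩ hne

include hc in
/-- on quasi-compact quasi-separated objects sections of the colimit come from a finite stage -/
theorem exists_rep {U : S.Etale} [CompactSpace U.left] [QuasiSeparatedSpace U.left] (t : EtCoh.sect c.pt U) :
    ∃ (j : J) (s : EtCoh.sect (K.obj j) U), (c.ι.app j).hom.app (op U) s = t := by
  classical
  have hloc : ∀ x : U.left, ∃ (W : S.Etale) (g : W ⟶ U), CompactSpace W.left ∧ x ∈ Set.range g.left ∧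
      ∃ (j : J) (s : EtCoh.sect (K.obj j) W), (c.ι.app j).hom.app (op W) s = c.pt.obj.map g.op t := by
    intro x
    obtain ⟨W, g, ⟨w, hw⟩, j, s, hs⟩ := exists_local_rep hc t x
    obtain ⟨_, ⟨O, hO, rfl⟩, hwO, -⟩ := W.left.isBasis_affineOpens.exists_subset_of_mem_open
      (Set.mem_univ w) isOpen_univ
    have := W.prop
    let W' : S.Etale := Scheme.Etale.mk (Scheme.Opens.ι O ≫ W.hom)
    let i : W' ⟶ W := MorphismProperty.Over.homMk (Scheme.Opens.ι O) rfl
    refine ⟨W', i ≫ g, isCompact_iff_compactSpace.mp hO.isCompact, ?_, j, (K.obj j).obj.map i.op s, ?_⟩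
    · obtain ⟨w', hw'⟩ := (Scheme.Opens.range_ι O).ge hwO
      exact ⟨w', by
        change g.left (Scheme.Opens.ι O w') = x
        rw [hw', hw]⟩
    · rw [NatTrans.naturality_apply, hs]
      exact (ConcreteCategory.congr_hom (c.pt.obj.map_comp g.op i.op) t).symm
  choose W g hW hx j s hs using hloc
  obtain ⟨F, hF⟩ := isCompact_univ.elim_finite_subcover (fun x => Set.range (g x).left)
    (fun x => by haveI := etale_left (g x); exact (g x).left.isOpenMap.isOpen_range)
    (fun x _ => Set.mem_iUnion.mpr ⟨x, hx x⟩)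
  obtain ⟨m, hm⟩ := IsFiltered.sup_objs_exists (F.image j)
  let σ : ∀ x : F, EtCoh.sect (K.obj m) (W x.1) := fun x =>
    (K.map (hm (Finset.mem_image_of_mem j x.2)).some).hom.app (op (W x.1)) (s x.1)
  have hσ : ∀ x : F, (c.ι.app m).hom.app (op (W x.1)) (σ x) = c.pt.obj.map (g x.1).op t := fun x => by
    rw [← hs x.1, ← ConcreteCategory.comp_apply]
    exact ConcreteCategory.congr_hom (congrArg (fun q => q.hom.app (op (W x.1))) (c.w _)) (s x.1)
  -- agreement on the overlaps
  let P : F × F → S.Etale := fun y =>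
    haveI := etale_left (g y.1.1)
    haveI := etale_left (g y.2.1)
    haveI := (W y.1.1).prop
    Scheme.Etale.mk (pullback.fst (g y.1.1).left (g y.2.1).left ≫ (W y.1.1).hom)
  let p₁ : ∀ y, P y ⟶ W y.1.1 := fun y => MorphismProperty.Over.homMk (pullback.fst (g y.1.1).left (g y.2.1).left) rfl
  let p₂ : ∀ y, P y ⟶ W y.2.1 := fun y => MorphismProperty.Over.homMk (pullback.snd (g y.1.1).left (g y.2.1).left) (by
    change _ = pullback.fst (g y.1.1).left (g y.2.1).left ≫ (W y.1.1).hom
    rw [← MorphismProperty.Over.w (g y.2.1), ← Category.assoc, ← pullback.condition, Category.assoc,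
      MorphismProperty.Over.w (g y.1.1)])
  have hp : ∀ y, p₁ y ≫ g y.1.1 = p₂ y ≫ g y.2.1 := fun y => MorphismProperty.Over.Hom.ext pullback.condition
  have hover : ∀ G : Finset (F × F), ∃ (n : J) (e : m ⟶ n), ∀ y ∈ G,
      (K.map e).hom.app (op (P y)) ((K.obj m).obj.map (p₁ y).op (σ y.1) - (K.obj m).obj.map (p₂ y).op (σ y.2)) = 0 := by
    intro G
    induction G using Finset.induction_on with
    | empty => exact ⟨m, 𝟙 m, by simp⟩
    | insert y G _ ih =>
      obtain ⟨n, e, he⟩ := ih
      haveI := hW y.1.1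
      haveI := hW y.2.1
      haveI : CompactSpace (P y).left := QuasiCompact.compactSpace_of_compactSpace (pullback.fst (g y.1.1).left (g y.2.1).left)
      let d := (K.obj m).obj.map (p₁ y).op (σ y.1) - (K.obj m).obj.map (p₂ y).op (σ y.2)
      obtain ⟨k, a, ha⟩ := exists_zero_of_isCompact hc d
        (isClosed_sectSupp (K.obj m) d).isCompact (by
          rw [map_sub, NatTrans.naturality_apply, NatTrans.naturality_apply, hσ, hσ]
          refine sub_eq_zero.mpr ?_
          change c.pt.obj.map (p₁ y).op (c.pt.obj.map (g y.1.1).op t) = c.pt.obj.map (p₂ y).op (c.pt.obj.map (g y.2.1).op t)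
          rw [← ConcreteCategory.comp_apply, ← ConcreteCategory.comp_apply, ← Functor.map_comp, ← Functor.map_comp,
            ← op_comp, ← op_comp, hp])
      obtain ⟨l, u, v, huv⟩ := IsFiltered.span e a
      refine ⟨l, e ≫ u, fun z hz => ?_⟩
      rcases Finset.mem_insert.mp hz with rfl | hz
      · rw [huv, Functor.map_comp]
        exact (congrArg ((K.map v).hom.app (op (P z))) ha).trans (map_zero _)
      · rw [Functor.map_comp]
        exact (congrArg ((K.map u).hom.app (op (P z))) (he z hz)).trans (map_zero _)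
  obtain ⟨n, e, he⟩ := hover Finset.univ
  have hcov : ∀ v : U.left, ∃ x : F, v ∈ Set.range (g x.1).left := fun v => by
    obtain ⟨x, hxF, hv⟩ := Set.mem_iUnion₂.mp (hF (Set.mem_univ v))
    exact ⟨⟨x, hxF⟩, hv⟩
  obtain ⟨r, hr⟩ := exists_amalg (K.obj n) (fun x : F => W x.1) (fun x => g x.1) hcov
    (fun x => (K.map e).hom.app (op (W x.1)) (σ x)) (fun x x' T a b hab => by
      let y : F × F := (x, x')
      let q : T ⟶ P y := MorphismProperty.Over.homMk
        (pullback.lift a.left b.left (congrArg (fun k => k.left) hab)) (by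
          change pullback.lift _ _ _ ≫ pullback.fst (g x.1).left (g x'.1).left ≫ (W x.1).hom = T.hom
          rw [pullback.lift_fst_assoc]; exact MorphismProperty.Over.w a)
      have h1 : q ≫ p₁ y = a := MorphismProperty.Over.Hom.ext (pullback.lift_fst _ _ _)
      have h2 : q ≫ p₂ y = b := MorphismProperty.Over.Hom.ext (pullback.lift_snd _ _ _)
      have h0 := he y (Finset.mem_univ _)
      rw [map_sub, sub_eq_zero, NatTrans.naturality_apply, NatTrans.naturality_apply] at h0
      rw [← h1, ← h2, op_comp, op_comp, Functor.map_comp, Functor.map_comp, ConcreteCategory.comp_apply,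
        ConcreteCategory.comp_apply]
      exact congrArg ((K.obj n).obj.map q.op) h0)
  refine ⟨n, r, ?_⟩
  rw [← sub_eq_zero]
  refine eq_zero_of_cover c.pt _ fun v => ?_
  obtain ⟨x, hv⟩ := hcov v
  refine ⟨W x.1, g x.1, hv, ?_⟩
  rw [map_sub, sub_eq_zero]
  refine (NatTrans.naturality_apply (c.ι.app n).hom (g x.1).op r).symm.trans ?_
  rw [hr, ← hσ, ← ConcreteCategory.comp_apply]
  exact ConcreteCategory.congr_hom (congrArg (fun q => q.hom.app (op (W x.1))) (c.w e)) (σ x)

end Groth.Agent.EtColimH
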