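import Groth.Agent.EtColimH.Acyclic
import Groth.Agent.ToposColim.Shift
import Groth.Agent.EtMV.Free
import Mathlib

/-! Etale cohomology of quasi-compact quasi-separated objects commutes with filtered colimits. -/

universe u

open CategoryTheory CategoryTheory.Limits AlgebraicGeometry Opposite Abelian

set_option backward.isDefEq.respectTransparency false
set_option backward.isDefEq.respectTransparency.types false

noncomputable section

namespace Groth.Agent.EtColimH

set_option linter.auxLemma false
attribute [local instance 100000] EtCoh.H._proof_1 Groth.Agent.EtMV.hext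
attribute [local instance 200000] Groth.Agent.EtMV.hextAb

variable {X : Scheme.{u}} {W : X.Etale} (hW : Qcqs W) (P : EtCoh.Ab X)
  (e : ∀ G : EtCoh.Ab X, (P ⟶ G) ≃ EtCoh.sect G W)
  (he : ∀ {G G' : EtCoh.Ab X} (φ : P ⟶ G) (ψ : G ⟶ G'), e G' (φ ≫ ψ) = ψ.hom.app (op W) (e G φ))

include hW he in
theorem subsingleton_ext_of_cac (q : ℕ) : ∀ G : EtCoh.Ab X, CAc G → Subsingleton (Ext P G (q + 1)) := by
  induction q with
  | zero =>
    intro G hG
    haveI : Subsingleton (Ext P (SiteCoh.embedSeq G).X₂ 1) := inferInstance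
    refine SiteCoh.subsingleton_ext_one_of_lift (SiteCoh.embedSeq_shortExact G) P fun φ => ?_
    obtain ⟨s, hs⟩ := surjective_sections (SiteCoh.embedSeq_shortExact G) hG hW (e _ φ)
    refine ⟨(e _).symm s, (e _).injective ?_⟩
    rw [he, Equiv.apply_symm_apply, hs]
  | succ q ih =>
    intro G hG
    haveI := ih _ (cac_quotient (SiteCoh.embedSeq_shortExact G) hG fun {Z W} p => cac_injective (SiteCoh.embedSeq G).X₂ p)
    exact SiteCoh.subsingleton_ext_succ (SiteCoh.embedSeq_shortExact G) P (q + 1)

include he in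
theorem e_zero (G : EtCoh.Ab X) : e G 0 = 0 := by
  have h := he (G := G) (G' := G) 0 (0 : G ⟶ G)
  rw [zero_comp] at h
  exact h

include hW he in
theorem preservesColimitsOfShape_ext (J : Type (u + 1)) [SmallCategory J] [IsFiltered J] (q : ℕ) :
    PreservesColimitsOfShape J ((Abelian.extFunctor.{u + 1} q).obj (op P) : EtCoh.Ab X ⥤ AddCommGrpCat.{u + 1}) := by
  haveI := hW.1
  haveI := hW.2
  refine ToposColim.preservesColimitsOfShape_extFunctor P (fun F φ => ?_) (fun F i ψ h => ?_) (fun F hF q => ?_) q
  · obtain ⟨j, s, hs⟩ := exists_rep (colimit.isColimit F) (e _ φ)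
    refine ⟨j, (e _).symm s, (e _).injective ?_⟩
    rw [he, Equiv.apply_symm_apply]
    exact hs
  · have h0 : (colimit.ι F i).hom.app (op W) (e _ ψ) = 0 := by rw [← he, h, e_zero P e he]
    obtain ⟨k, a, ha⟩ := exists_zero_of_isCompact (colimit.isColimit F) (e _ ψ)
      (EtSect.isClosed_sectSupp (F.obj i) _).isCompact h0
    exact ⟨k, a, (e _).injective (by rw [he, e_zero P e he]; exact ha)⟩
  · exact subsingleton_ext_of_cac hW P e he q _ (cac_of_isColimit (colimit.isColimit F) fun j => by
      haveI := hF j; intro Z W p; exact cac_injective (F.obj j) p)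

end Groth.Agent.EtColimH

namespace Groth.Agent.EtColimH

set_option linter.auxLemma false
attribute [local instance 100000] EtCoh.H._proof_1 Groth.Agent.EtMV.hext
attribute [local instance 200000] Groth.Agent.EtMV.hextAb

variable (X : Scheme.{u})

/-- maps out of the constant sheaf as global sections -/
def constEquiv (G : EtCoh.Ab X) :
    ((constantSheaf X.smallEtaleTopology AddCommGrpCat.{u + 1}).obj (AddCommGrpCat.of (ULift.{u + 1} ℤ)) ⟶ G) ≃
      EtCoh.sect G (EtCoh.top X) :=
  ((constantSheafAdj X.smallEtaleTopology AddCommGrpCat.{u + 1} (EtCore.topIsTerminal X)).homAddEquiv _ G |>.trans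
    (AddCommGrpCat.uliftZMultiplesAddEquiv _)).toEquiv

theorem preservesColimitsOfShape_HF [CompactSpace X] [QuasiSeparatedSpace X] (n : ℕ) (J : Type (u + 1))
    [SmallCategory J] [IsFiltered J] : PreservesColimitsOfShape J (EtCoh.HF X n) := by
  haveI := preservesColimitsOfShape_ext (W := EtCoh.top X) ⟨‹_›, ‹_›⟩ _ (constEquiv X)
    (fun φ ψ => rfl) J n
  exact preservesColimitsOfShape_of_natIso
    (NatIso.ofComponents (fun G => Iso.refl _) fun f => rfl :
      (Abelian.extFunctor.{u + 1} n).obj (op ((constantSheaf X.smallEtaleTopology AddCommGrpCat.{u + 1}).obj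
        (AddCommGrpCat.of (ULift.{u + 1} ℤ)))) ≅ EtCoh.HF X n)

theorem preservesColimitsOfShape_HF_small [CompactSpace X] [QuasiSeparatedSpace X] (n : ℕ) (J : Type u)
    [SmallCategory J] [IsFiltered J] : PreservesColimitsOfShape J (EtCoh.HF X n) := by
  haveI : IsFiltered (AsSmall.{u + 1} J) := IsFiltered.of_equivalence AsSmall.equiv
  haveI := preservesColimitsOfShape_HF X n (AsSmall.{u + 1} J)
  exact preservesColimitsOfShape_of_equiv (AsSmall.equiv (C := J)).symm _

end Groth.Agent.EtColimH
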