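import Groth.Agent.EtColimH.Acyclic
import Groth.Agent.RDerLib.LES
import Groth.Agent.EtMV.Free
import Groth.Agent.EtCons.IndCons
import Mathlib

/-! Higher direct images of torsion sheaves are torsion. -/

universe u

open CategoryTheory CategoryTheory.Limits AlgebraicGeometry Opposite
open Groth.Agent.EpsLan (pwr pproj pdrop plift plift_proj pproj_comm pd pd_sub pd_zero pd_natTrans pd_pd pd_proj_zero
  PExact pExact_of_injective pone pone_proj proj_pone)

set_option backward.isDefEq.respectTransparency false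
set_option backward.isDefEq.respectTransparency.types false

noncomputable section

namespace Groth.Agent.EtColimH

open Groth.Agent.EtSect (etale_left)

variable {X : Scheme.{u}}

/-- admissible exponents -/
structure Exponents (P : ℕ → Prop) : Prop where
  pos : ∀ {m}, P m → 0 < m
  one : P 1
  mul : ∀ {m m'}, P m → P m' → P (m * m')

/-- every section is locally killed by an admissible exponent -/
def LocKilled (P : ℕ → Prop) (F : EtCoh.Ab X) : Prop :=
  ∀ (U : X.Etale) (s : EtCoh.sect F U) (x : U.left), ∃ (V : X.Etale) (g : V ⟶ U) (m : ℕ),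
    (∃ v : V.left, g.left v = x) ∧ P m ∧ m • F.obj.map g.op s = 0

/-- exponents ordered by divisibility -/
structure Expo (P : ℕ → Prop) : Type (u + 1) where
  /-- the exponent -/
  down : ULift.{u + 1} {m : ℕ // P m}

instance (P : ℕ → Prop) : Preorder (Expo.{u} P) where
  le a b := a.down.down.1 ∣ b.down.down.1
  le_refl a := dvd_refl a.down.down.1
  le_trans _ _ _ h h' := dvd_trans h h'

variable {P : ℕ → Prop} (hP : Exponents P)

include hP in
theorem exists_killer {F : EtCoh.Ab X} (hF : LocKilled P F) {U : X.Etale} [CompactSpace U.left]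
    (s : EtCoh.sect F U) : ∃ m, P m ∧ m • s = 0 := by
  classical
  choose V g m hv hm hs using hF U s
  obtain ⟨T, hT⟩ := isCompact_univ.elim_finite_subcover (fun x => Set.range (g x).left)
    (fun x => by haveI := etale_left (g x); exact (g x).left.isOpenMap.isOpen_range)
    (fun x _ => Set.mem_iUnion.mpr ⟨x, hv x⟩)
  refine ⟨∏ x ∈ T, m x, Finset.prod_induction _ P (fun a b => hP.mul) hP.one fun x _ => hm x, ?_⟩
  refine EtSect.eq_zero_of_cover F _ fun v => ?_
  obtain ⟨x, hxT, hx⟩ := Set.mem_iUnion₂.1 (hT (Set.mem_univ v))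
  refine ⟨V x, g x, hx, ?_⟩
  obtain ⟨d, hd⟩ := Finset.dvd_prod_of_mem m hxT
  rw [map_nsmul, hd, mul_comm, mul_nsmul', hs, nsmul_zero]

theorem locKilled_of_epi {F Q : EtCoh.Ab X} (π : F ⟶ Q) [Epi π] (hF : LocKilled P F) : LocKilled P Q := by
  intro U t x
  haveI : Sheaf.IsLocallySurjective π :=
    (Sheaf.isLocallySurjective_iff_epi' AddCommGrpCat.{u + 1} π).2 inferInstance
  obtain ⟨W, g, ⟨s, hs⟩, w, hw⟩ := exists_of_mem (Presheaf.imageSieve_mem X.smallEtaleTopology π.hom t) x
  obtain ⟨V, k, m, ⟨v, hv⟩, hm, hz⟩ := hF W s w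
  refine ⟨V, k ≫ g, m, ⟨v, ?_⟩, hm, ?_⟩
  · rw [EtFLC.comp_left_apply, hv, hw]
  · rw [op_comp, Functor.map_comp, ConcreteCategory.comp_apply, ← hs, ← NatTrans.naturality_apply, ← map_nsmul, hz,
      map_zero]

theorem divisible_of_injective (I : EtCoh.Ab X) [Injective I] {U : X.Etale} (s : EtCoh.sect I U) {m : ℕ}
    (hm : 0 < m) : ∃ t : EtCoh.sect I U, m • t = s := by
  let A := (EtMV.freePre X).obj U
  haveI : Mono (m • 𝟙 A) := by
    rw [NatTrans.mono_iff_mono_app]
    intro T
    rw [AddCommGrpCat.mono_iff_injective]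
    intro a b hab
    let a' : FreeAbelianGroup (((uliftYoneda.{u + 1}).obj U).obj T) := a
    let b' : FreeAbelianGroup (((uliftYoneda.{u + 1}).obj U).obj T) := b
    have h2 : m • a' = m • b' := hab
    have h3 : a' = b' := (FreeAbelianGroup.equivFinsupp _).injective
      (nsmul_right_injective hm.ne' (by
        show m • FreeAbelianGroup.equivFinsupp _ a' = m • FreeAbelianGroup.equivFinsupp _ b'
        rw [← map_nsmul, ← map_nsmul, h2]))
    exact h3
  haveI : Mono ((presheafToSheaf X.smallEtaleTopology AddCommGrpCat.{u + 1}).map (m • 𝟙 A)) := inferInstance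
  let φ : (EtMV.P X).obj U ⟶ I := EtMV.σ.symm s
  let μ : (EtMV.P X).obj U ⟶ (EtMV.P X).obj U := (presheafToSheaf X.smallEtaleTopology AddCommGrpCat.{u + 1}).map (m • 𝟙 A)
  haveI : (presheafToSheaf X.smallEtaleTopology AddCommGrpCat.{u + 1}).Additive :=
    Functor.additive_of_preserves_binary_products _
  have hμ : μ = m • 𝟙 ((EtMV.P X).obj U) := by
    simp only [μ, Functor.map_nsmul]
    exact congrArg (m • ·) (CategoryTheory.Functor.map_id _ A)
  let ψ := Injective.factorThru φ μ
  have h : μ ≫ ψ = φ := Injective.comp_factorThru φ μ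
  refine ⟨EtMV.σ ψ, ?_⟩
  rw [hμ, Preadditive.nsmul_comp, Category.id_comp] at h
  have hσ : EtMV.σ (m • ψ) = m • EtMV.σ ψ := map_nsmul (AddMonoidHom.mk' EtMV.σ EtMV.σ_add) m ψ
  rw [← hσ, h]
  exact Equiv.apply_symm_apply _ _

/-- the kernel of multiplication -/
abbrev tor (I : EtCoh.Ab X) (m : ℕ) : EtCoh.Ab X := kernel (m • 𝟙 I)

theorem tor_shortExact (I : EtCoh.Ab X) [Injective I] {m : ℕ} (hm : 0 < m) :
    (ShortComplex.mk (kernel.ι (m • 𝟙 I)) (m • 𝟙 I) (kernel.condition _)).ShortExact := by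
  haveI : Sheaf.IsLocallySurjective (m • 𝟙 I) := ⟨fun {U} t => by
    obtain ⟨s, hs⟩ := divisible_of_injective I t hm
    convert! X.smallEtaleTopology.top_mem U using 1
    refine top_unique fun V g _ => ⟨I.obj.map g.op s, ?_⟩
    show m • I.obj.map g.op s = _
    rw [← map_nsmul, hs]⟩
  exact { exact := ShortComplex.exact_of_f_is_kernel _ (kernelIsKernel _)
          epi_g := inferInstanceAs (Epi (m • 𝟙 I)) }

theorem nsmul_tor {I : EtCoh.Ab X} {m : ℕ} {U : X.Etale} (s : EtCoh.sect (tor I m) U) :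
    m • (kernel.ι (m • 𝟙 I)).hom.app (op U) s = 0 :=
  ConcreteCategory.congr_hom (congr_app (congrArg (fun q => q.hom) (kernel.condition (m • 𝟙 I))) (op U)) s

theorem exists_descend (G : EtCoh.Ab X) {Z W : X.Etale} (p : Z ⟶ W) (hp : Function.Surjective p.left)
    (v : EtCoh.sect G (pwr p 0)) (hv : pd G.obj p v = 0) :
    ∃ w : EtCoh.sect G W, G.obj.map (pproj p 0 0 ≫ p).op w = v := by
  let v₀ := G.obj.map (pone p).op v
  have hv₀ : G.obj.map (pproj p 0 0).op v₀ = v := by
    change G.obj.map (pproj p 0 0).op (G.obj.map (pone p).op v) = v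
    rw [← ConcreteCategory.comp_apply, ← Functor.map_comp, ← op_comp, proj_pone, op_id,
      CategoryTheory.Functor.map_id]
    rfl
  have hv01 : G.obj.map (pproj p 1 1).op v₀ = G.obj.map (pproj p 1 0).op v₀ := by
    rw [← sub_eq_zero, ← pd_proj_zero, hv₀, hv]
  obtain ⟨w, hw⟩ := exists_amalg G (fun _ : PUnit.{u + 1} => Z) (fun _ => p)
    (fun w => ⟨⟨⟩, hp w⟩) (fun _ => v₀) fun _ _ T g₁ g₂ h12 => by
      let L := plift p (T := T) (n := 1) ![g₁, g₂] (by
        intro i
        fin_cases i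
        · rfl
        · exact h12.symm)
      have l0 : L ≫ pproj p 1 0 = g₁ := plift_proj _ _ _ _
      have l1 : L ≫ pproj p 1 1 = g₂ := plift_proj _ _ _ _
      rw [← l0, ← l1, op_comp, op_comp, Functor.map_comp, Functor.map_comp, ConcreteCategory.comp_apply,
        ConcreteCategory.comp_apply, hv01]
  refine ⟨w, ?_⟩
  rw [op_comp, Functor.map_comp, ConcreteCategory.comp_apply, show G.obj.map p.op w = v₀ from hw ⟨⟩, hv₀]

theorem cac_tor (I : EtCoh.Ab X) [Injective I] {m : ℕ} (hm : 0 < m) : CAc (tor I m) := by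
  intro Z W p hW hZ hp n x hx
  let ι := kernel.ι (m • 𝟙 I)
  have hS := tor_shortExact I hm
  obtain ⟨y, hy⟩ := cac_injective I p hW hZ hp n (ι.hom.app _ x) (by rw [← pd_natTrans, hx, map_zero])
  suffices ∃ y' : EtCoh.sect I (pwr p n), m • y' = 0 ∧ pd I.obj p y' = ι.hom.app _ x by
    obtain ⟨y', h0, hy'⟩ := this
    obtain ⟨z, hz⟩ := exists_of_map_g_eq_zero hS y' h0
    refine ⟨z, injective_f hS _ ?_⟩
    show ι.hom.app _ (pd (tor I m).obj p z) = _
    rw [pd_natTrans]
    exact (congrArg (pd I.obj p) hz).trans hy'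
  have hmy : pd I.obj p (m • y) = 0 := by
    have : pd I.obj p (m • y) = m • pd I.obj p y := by
      simp only [pd, map_nsmul, Finset.smul_sum, smul_comm m]
    rw [this, hy, nsmul_tor]
  cases n with
  | zero =>
    obtain ⟨w, hw⟩ := exists_descend I p hp (m • y) hmy
    obtain ⟨w', hw'⟩ := divisible_of_injective I w hm
    refine ⟨y - I.obj.map (pproj p 0 0 ≫ p).op w', ?_, ?_⟩
    · rw [nsmul_sub, ← map_nsmul, hw', hw, sub_self]
    · rw [pd_sub, hy, op_comp, Functor.map_comp, ConcreteCategory.comp_apply, pd_proj_zero,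
        ← ConcreteCategory.comp_apply, ← ConcreteCategory.comp_apply, ← Functor.map_comp, ← Functor.map_comp,
        ← op_comp, ← op_comp, pproj_comm, sub_self, sub_zero]
  | succ n =>
    obtain ⟨z, hz⟩ := cac_injective I p hW hZ hp n (m • y) hmy
    obtain ⟨z', hz'⟩ := divisible_of_injective I z hm
    refine ⟨y - pd I.obj p z', ?_, ?_⟩
    · have : m • pd I.obj p z' = pd I.obj p (m • z') := by
        simp only [pd, map_nsmul, Finset.smul_sum, smul_comm m]
      rw [nsmul_sub, this, hz', hz, sub_self]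
    · rw [pd_sub, hy, pd_pd, sub_zero]

include hP in
/-- a locally killed sheaf embeds in an acyclic locally killed sheaf -/
theorem exists_acyclic_hull {F : EtCoh.Ab X} (hF : LocKilled P F) :
    ∃ (T : EtCoh.Ab X) (e : F ⟶ T), Mono e ∧ CAc T ∧ LocKilled P T := by
  classical
  let I := Injective.under F
  let J : Type (u + 1) := Expo.{u} P
  haveI : Nonempty J := ⟨⟨⟨⟨1, hP.one⟩⟩⟩⟩
  haveI : IsDirectedOrder J :=
    ⟨fun a b => ⟨⟨⟨⟨_, hP.mul a.down.down.2 b.down.down.2⟩⟩⟩, dvd_mul_right a.down.down.1 b.down.down.1,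
      dvd_mul_left b.down.down.1 a.down.down.1⟩⟩
  have htr : ∀ {a b : J}, a ≤ b → kernel.ι (a.down.down.1 • 𝟙 I) ≫ (b.down.down.1 • 𝟙 I) = 0 := by
    rintro a b ⟨d, hd⟩
    rw [hd, mul_comm, mul_nsmul', Preadditive.comp_nsmul, kernel.condition, smul_zero]
  let D : J ⥤ EtCoh.Ab X :=
    { obj := fun a => tor I a.down.down.1
      map := fun {a b} h => kernel.lift _ (kernel.ι (a.down.down.1 • 𝟙 I)) (htr h.le)
      map_id := fun a => equalizer.hom_ext (by simp)
      map_comp := fun {a b c} h h' => equalizer.hom_ext (by simp) }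
  let c := colimit.cocone D
  let hc : IsColimit c := colimit.isColimit D
  let j : c.pt ⟶ I := hc.desc (Cocone.mk I { app := fun a => kernel.ι (a.down.down.1 • 𝟙 I),
                                              naturality := fun a b h => by simp [D] })
  have hj : ∀ a, c.ι.app a ≫ j = kernel.ι (a.down.down.1 • 𝟙 I) := fun a => hc.fac _ a
  haveI : Sheaf.IsLocallyInjective j := by
    refine ⟨fun {U} s t hst => (EtFLC.mem_iff _).2 fun x => ?_⟩
    obtain ⟨U⟩ := U
    obtain ⟨W, g, ⟨w, hw⟩, a, r, hr⟩ := exists_local_rep hc (s - t) x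
    refine ⟨W, g, w, ?_, hw⟩
    show c.pt.obj.map g.op s = c.pt.obj.map g.op t
    rw [← sub_eq_zero, ← map_sub, ← hr]
    have h0 : (kernel.ι (a.down.down.1 • 𝟙 I)).hom.app (op W) r = 0 := by
      rw [← hj a]
      show j.hom.app (op W) ((c.ι.app a).hom.app (op W) r) = 0
      rw [hr, NatTrans.naturality_apply, map_sub, hst, sub_self, map_zero]
    haveI : Mono (kernel.ι (a.down.down.1 • 𝟙 I)) := inferInstance
    rw [injective_f (tor_shortExact I (hP.pos a.down.down.2)) W (a₁ := r) (a₂ := 0) (h0.trans (map_zero _).symm), map_zero]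
  haveI : Mono j := Sheaf.mono_of_isLocallyInjective j
  have hz : Injective.ι F ≫ cokernel.π j = 0 := by
    apply ObjectProperty.hom_ext
    ext U s
    refine EtSect.eq_zero_of_cover (cokernel j) _ fun x => ?_
    obtain ⟨W, g, m, hx, hm, hs⟩ := hF U.unop s x
    refine ⟨W, g, hx, ?_⟩
    let a : J := ⟨⟨⟨m, hm⟩⟩⟩
    obtain ⟨r, hr⟩ := exists_of_map_g_eq_zero (tor_shortExact I (hP.pos hm))
      ((Injective.ι F).hom.app (op W) (F.obj.map g.op s))
      (by
        show m • (Injective.ι F).hom.app (op W) (F.obj.map g.op s) = 0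
        rw [← map_nsmul, hs, map_zero])
    have h1 : kernel.ι (a.down.down.1 • 𝟙 I) ≫ cokernel.π j = 0 := by
      rw [← hj a, Category.assoc, cokernel.condition, comp_zero]
    show (cokernel j).obj.map g.op ((Injective.ι F ≫ cokernel.π j).hom.app U s) = 0
    refine (NatTrans.naturality_apply (Injective.ι F ≫ cokernel.π j).hom g.op s).symm.trans ?_
    show (cokernel.π j).hom.app (op W) ((Injective.ι F).hom.app (op W) (F.obj.map g.op s)) = 0
    rw [← hr]
    exact ConcreteCategory.congr_hom (congr_app (congrArg (fun q => q.hom) h1) (op W)) r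
  obtain ⟨e, he⟩ : ∃ e : F ⟶ c.pt, e ≫ j = Injective.ι F := ⟨Abelian.monoLift j (Injective.ι F) hz, Abelian.monoLift_comp _ _ _⟩
  refine ⟨c.pt, e, ?_, cac_of_isColimit hc fun a {Z W} p => cac_tor I (hP.pos a.down.down.2) p, fun U s x => ?_⟩
  · haveI : Mono (e ≫ j) := by rw [he]; infer_instance
    exact mono_of_mono e j
  · obtain ⟨W, g, hx, a, r, hr⟩ := exists_local_rep hc s x
    refine ⟨W, g, a.down.down.1, hx, a.down.down.2, ?_⟩
    rw [← hr]
    refine ((map_nsmul ((c.ι.app a).hom.app (op W)).hom _ r).symm).trans ?_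
    have h0 : a.down.down.1 • r = 0 := injective_f (tor_shortExact I (hP.pos a.down.down.2)) W (by
      show (kernel.ι (a.down.down.1 • 𝟙 I)).hom.app (op W) (a.down.down.1 • r) = (kernel.ι (a.down.down.1 • 𝟙 I)).hom.app (op W) 0
      rw [map_nsmul, nsmul_tor, map_zero])
    rw [h0, map_zero]

/-- the connecting step -/
theorem isZero_succ {C : Type*} [Category C] [Abelian C] [HasInjectiveResolutions C] {D : Type*} [Category D]
    [Abelian D] (Φ : C ⥤ D) [Φ.Additive] {S : ShortComplex C} (hS : S.ShortExact) (q : ℕ)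
    (h2 : IsZero ((Φ.rightDerived (q + 1)).obj S.X₂)) (hg : Epi ((Φ.rightDerived q).map S.g)) :
    IsZero ((Φ.rightDerived (q + 1)).obj S.X₁) := by
  let T := RDerLib.res hS
  have e3 := RDerLib.exact₃ Φ T q (q + 1) rfl
  have e1 := RDerLib.exact₁ Φ T q (q + 1) rfl
  have hδ : T.delta Φ q (q + 1) rfl = 0 := by
    rw [← cancel_epi ((Φ.rightDerived q).map S.g), comp_zero]
    exact RDerLib.g_delta Φ T q (q + 1) rfl
  haveI : Mono ((Φ.rightDerived (q + 1)).map S.f) := e1.mono_g hδ
  exact IsZero.of_mono ((Φ.rightDerived (q + 1)).map S.f) h2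

theorem epi_rightDerived_zero {C : Type*} [Category C] [Abelian C] [HasInjectiveResolutions C] {D : Type*}
    [Category D] [Abelian D] (Φ : C ⥤ D) [Φ.Additive] [PreservesFiniteLimits Φ] {A B : C} (g : A ⟶ B)
    (hg : Epi (Φ.map g)) : Epi ((Φ.rightDerived 0).map g) := by
  have e : (Φ.rightDerived 0).map g =
      Φ.rightDerivedZeroIsoSelf.hom.app A ≫ Φ.map g ≫ Φ.rightDerivedZeroIsoSelf.inv.app B := by
    rw [← Category.assoc, ← Φ.rightDerivedZeroIsoSelf.hom.naturality g, Category.assoc, Iso.hom_inv_id_app,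
      Category.comp_id]
  rw [e]
  infer_instance

variable {Y : Scheme.{u}} (f : X ⟶ Y) [QuasiCompact f] [QuasiSeparated f] [EtCoh.BCCont f]

theorem qcqs_bc (V : Y.Etale) [IsAffine V.left] : Qcqs ((EtCoh.bc f).obj V) := by
  let v : V.left ⟶ Y := V.hom
  show CompactSpace (pullback v f : Scheme.{u}) ∧ QuasiSeparatedSpace (pullback v f : Scheme.{u})
  exact ⟨QuasiCompact.compactSpace_of_compactSpace (pullback.fst v f),
    quasiSeparatedSpace_of_quasiSeparated (pullback.fst v f)⟩

/-- an affine neighbourhood in an etale object -/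
theorem exists_affine_nhd (V : Y.Etale) (x : V.left) :
    ∃ (V' : Y.Etale) (g : V' ⟶ V), IsAffine V'.left ∧ x ∈ Set.range g.left := by
  obtain ⟨_, ⟨O, hO, rfl⟩, hxO, -⟩ := V.left.isBasis_affineOpens.exists_subset_of_mem_open (Set.mem_univ x) isOpen_univ
  have := V.prop
  let V' : Y.Etale := Scheme.Etale.mk (Scheme.Opens.ι O ≫ V.hom)
  exact ⟨V', MorphismProperty.Over.homMk (Scheme.Opens.ι O) rfl, hO, (⟨x, hxO⟩ : O), rfl⟩

theorem epi_push_map {S : ShortComplex (EtCoh.Ab X)} (hS : S.ShortExact) (h : CAc S.X₁) :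
    Epi ((EtCoh.push f).map S.g) := by
  refine (Sheaf.isLocallySurjective_iff_epi' AddCommGrpCat.{u + 1} ((EtCoh.push f).map S.g)).1
    ⟨fun {V} s => (EtFLC.mem_iff _).2 fun x => ?_⟩
  obtain ⟨V', g, hV', w, hw⟩ := exists_affine_nhd V x
  obtain ⟨t, ht⟩ := surjective_sections hS h (qcqs_bc f V') (((EtCoh.push f).obj S.X₃).obj.map g.op s)
  exact ⟨V', g, w, ⟨t, ht⟩, hw⟩

theorem isZero_rpush_of_cac (q : ℕ) : ∀ G : EtCoh.Ab X, CAc G →
    IsZero ((EtCoh.Rpush f (q + 1)).obj G) := by
  haveI : PreservesFiniteLimits (EtCoh.push f) :=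
    haveI := (EtCoh.pullPushAdj f).rightAdjoint_preservesLimits
    PreservesLimits.preservesFiniteLimits _
  induction q with
  | zero =>
    intro G hG
    refine isZero_succ (EtCoh.push f) (SiteCoh.embedSeq_shortExact G) 0 ?_ ?_
    · exact Functor.isZero_rightDerived_obj_injective_succ _ _ _
    · exact epi_rightDerived_zero _ _ (epi_push_map f (SiteCoh.embedSeq_shortExact G) hG)
  | succ q ih =>
    intro G hG
    refine isZero_succ (EtCoh.push f) (SiteCoh.embedSeq_shortExact G) (q + 1) ?_ ?_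
    · exact Functor.isZero_rightDerived_obj_injective_succ _ _ _
    · exact ⟨fun a b _ => (ih _ (cac_quotient (SiteCoh.embedSeq_shortExact G) hG
        fun {Z W} p => cac_injective (SiteCoh.embedSeq G).X₂ p)).eq_of_src a b⟩

include hP in
theorem locKilled_push {F : EtCoh.Ab X} (hF : LocKilled P F) : LocKilled P ((EtCoh.push f).obj F) := by
  intro V s x
  obtain ⟨V', g, hV', w, hw⟩ := exists_affine_nhd V x
  haveI := (qcqs_bc f V').1
  obtain ⟨m, hm, hs⟩ := exists_killer hP hF (U := (EtCoh.bc f).obj V') (((EtCoh.push f).obj F).obj.map g.op s)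
  exact ⟨V', g, m, ⟨w, hw⟩, hm, hs⟩

include hP in
theorem locKilled_rpush (q : ℕ) : ∀ {F : EtCoh.Ab X}, LocKilled P F → LocKilled P ((EtCoh.Rpush f q).obj F) := by
  haveI : PreservesFiniteLimits (EtCoh.push f) :=
    haveI := (EtCoh.pullPushAdj f).rightAdjoint_preservesLimits
    PreservesLimits.preservesFiniteLimits _
  induction q with
  | zero =>
    intro F hF
    exact locKilled_of_epi ((EtCoh.push f).rightDerivedZeroIsoSelf.inv.app F) (locKilled_push hP f hF)
  | succ q ih =>
    intro F hF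
    obtain ⟨T, e, he, hT, hkT⟩ := exists_acyclic_hull hP hF
    let S : ShortComplex (EtCoh.Ab X) := ShortComplex.mk e (cokernel.π e) (cokernel.condition e)
    have hS : S.ShortExact := { exact := ShortComplex.exact_of_g_is_cokernel _ (cokernelIsCokernel _) }
    let R := RDerLib.res hS
    haveI : Epi (R.delta (EtCoh.push f) q (q + 1) rfl) :=
      (RDerLib.exact₁ (EtCoh.push f) R q (q + 1) rfl).epi_f ((isZero_rpush_of_cac f q T hT).eq_of_tgt _ _)
    exact locKilled_of_epi (R.delta (EtCoh.push f) q (q + 1) rfl) (ih (locKilled_of_epi (cokernel.π e) hkT))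

end Groth.Agent.EtColimH
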