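import Groth.Agent.EtColimH.Main
import Groth.Agent.EtCons.IndCons
import Mathlib

/-! Cohomology of torsion sheaves is torsion. -/

universe u

open CategoryTheory CategoryTheory.Limits AlgebraicGeometry Opposite

set_option backward.isDefEq.respectTransparency false
set_option backward.isDefEq.respectTransparency.types false

noncomputable section

namespace Groth.Agent.EtColimH

variable {X : Scheme.{u}}

theorem nsmul_id_eq_zero {F : EtCoh.Ab X} {N : ℕ} (h : EtCoh.KilledBy N F) : (N • 𝟙 F : F ⟶ F) = 0 := by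
  apply ObjectProperty.hom_ext
  ext V s
  exact h V.unop s

theorem isAddTorsion_of_colimit (Φ : EtCoh.Ab X ⥤ AddCommGrpCat.{u + 1}) [Φ.Additive]
    [CompactSpace X] [QuasiSeparatedSpace X] (F : EtCoh.Ab X) (hF : EtCoh.IsTorsion F)
    (hΦ : ∀ (J : Type (u + 1)) [SmallCategory J] [IsFiltered J], PreservesColimitsOfShape J Φ) :
    IsAddTorsion (Φ.obj F) := by
  obtain ⟨hfil, ⟨hc⟩, hD⟩ := EtCons.nonempty_isColimit_consCocone (fun _ => True) F (fun _ _ => trivial)
    (fun _ _ _ _ => trivial) (fun _ _ _ _ => trivial)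
    (EtCons.exists_isConstructible.elim fun G hG => ⟨G, hG, trivial⟩) hF (EtCons.exists_gen_section hF)
  haveI := hfil
  haveI := hΦ (EtCons.ConsOver (fun _ => True) F)
  intro x
  obtain ⟨j, y, rfl⟩ := Concrete.isColimit_exists_rep _ (isColimitOfPreserves Φ hc) x
  obtain ⟨N, hN, hk⟩ := EtCons.exists_killedBy _ (hD j).1
  rw [isOfFinAddOrder_iff_nsmul_eq_zero]
  refine ⟨N, hN, ?_⟩
  refine ((map_nsmul ((Φ.mapCocone (EtCons.consCocone (fun _ => True) F)).ι.app j).hom N y).symm).trans ?_
  refine (congrArg _ ?_).trans (map_zero _)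
  have h := congrArg Φ.map (nsmul_id_eq_zero hk)
  rw [Functor.map_nsmul, Functor.map_zero, CategoryTheory.Functor.map_id] at h
  exact ConcreteCategory.congr_hom h y

end Groth.Agent.EtColimH
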