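import Groth.Agent.EtColimH.Power
import Groth.Agent.SiteCoh.Basic
import Mathlib

/-! Čech acyclic etale sheaves: stable under filtered colimits, surjectivity on quasi-compact objects. -/

universe u

open CategoryTheory CategoryTheory.Limits AlgebraicGeometry Opposite
open Groth.Agent.EpsLan (pwr pproj pdrop plift plift_proj pproj_comm pd pd_sub pd_zero pd_natTrans pd_pd pd_proj_zero
  PExact pExact_of_injective pone pone_proj proj_pone)

set_option backward.isDefEq.respectTransparency false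
set_option backward.isDefEq.respectTransparency.types false

noncomputable section

namespace Groth.Agent.EtColimH

variable {X : Scheme.{u}}

/-- no higher Čech cohomology along surjections of quasi-compact quasi-separated objects -/
def CAc (G : EtCoh.Ab X) : Prop :=
  ∀ {Z W : X.Etale} (p : Z ⟶ W), Qcqs W → Qcqs Z → Function.Surjective p.left → PExact G.obj p

theorem cac_injective (I : EtCoh.Ab X) [Injective I] : CAc I := fun p _ _ _ =>
  haveI : Injective I.obj :=
    Injective.injective_of_adjoint (sheafificationAdjunction X.smallEtaleTopology AddCommGrpCat.{u + 1}) I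
  pExact_of_injective I.obj p

theorem cac_of_isColimit {J : Type (u + 1)} [SmallCategory J] [IsFiltered J] {K : J ⥤ EtCoh.Ab X} {c : Cocone K}
    (hc : IsColimit c) (h : ∀ j, CAc (K.obj j)) : CAc c.pt := by
  intro Z W p hW hZ hp n x hx
  haveI := (qcqs_pwr p hZ hW (n + 1)).1
  haveI := (qcqs_pwr p hZ hW (n + 1)).2
  haveI := (qcqs_pwr p hZ hW (n + 2)).1
  obtain ⟨j, s, rfl⟩ := exists_rep hc x
  replace hx := (pd_natTrans (K.obj j).obj c.pt.obj (c.ι.app j).hom p s).trans hx
  obtain ⟨k, a, ha⟩ := exists_zero_of_isCompact hc (pd (K.obj j).obj p s)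
    (EtSect.isClosed_sectSupp (K.obj j) _).isCompact hx
  rw [pd_natTrans] at ha
  obtain ⟨y, hy⟩ := h k p hW hZ hp n ((K.map a).hom.app _ s) ha
  refine ⟨(c.ι.app k).hom.app _ y, ?_⟩
  refine (pd_natTrans (K.obj k).obj c.pt.obj (c.ι.app k).hom p y).symm.trans ?_
  rw [hy]
  exact ConcreteCategory.congr_hom (congrArg (fun q => q.hom.app (op (pwr p (n + 1)))) (c.w a)) s

variable {S : ShortComplex (EtCoh.Ab X)}

theorem exists_of_map_g_eq_zero (hS : S.ShortExact) {T : X.Etale} (x : EtCoh.sect S.X₂ T)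
    (hx : S.g.hom.app _ x = 0) : ∃ y, S.f.hom.app _ y = x := by
  let Φ : EtCoh.Ab X ⥤ AddCommGrpCat.{u + 1} :=
    sheafToPresheaf _ _ ⋙ (evaluation _ AddCommGrpCat.{u + 1}).obj (op T)
  haveI : PreservesFiniteLimits Φ := comp_preservesFiniteLimits _ _
  haveI := hS.mono_f
  have h := ShortComplex.exact_of_f_is_kernel
    (ShortComplex.mk (Φ.map S.f) (Φ.map S.g) (by rw [← Functor.map_comp, S.zero, Functor.map_zero]))
    (KernelFork.mapIsLimit _ hS.fIsKernel Φ)
  exact (ShortComplex.ab_exact_iff _).1 h x hx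

theorem injective_f (hS : S.ShortExact) (T : X.Etale) : Function.Injective (S.f.hom.app (op T)) := by
  haveI := hS.mono_f
  let Φ : EtCoh.Ab X ⥤ AddCommGrpCat.{u + 1} :=
    sheafToPresheaf _ _ ⋙ (evaluation _ AddCommGrpCat.{u + 1}).obj (op T)
  haveI : PreservesFiniteLimits Φ := comp_preservesFiniteLimits _ _
  exact (AddCommGrpCat.mono_iff_injective (Φ.map S.f)).1 inferInstance

theorem g_f_eq_zero {T : X.Etale} (y : EtCoh.sect S.X₁ T) : S.g.hom.app _ (S.f.hom.app _ y) = 0 :=
  ConcreteCategory.congr_hom (congrArg (fun m : S.X₁ ⟶ S.X₃ => m.hom.app (op T)) S.zero) y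

theorem surjective_sections (hS : S.ShortExact) (h : CAc S.X₁) {W : X.Etale} (hW : Qcqs W) :
    Function.Surjective (S.g.hom.app (op W)) := by
  intro t
  haveI := hS.epi_g
  haveI : Sheaf.IsLocallySurjective S.g :=
    (Sheaf.isLocallySurjective_iff_epi' AddCommGrpCat.{u + 1} S.g).2 inferInstance
  obtain ⟨ι, Y, y, p, hy, hpy, hZ, hsurj⟩ := exists_refine hW _
    (Presheaf.imageSieve_mem X.smallEtaleTopology S.g.hom t)
  haveI := hZ
  have hZ' : Qcqs (sigmaObj Y) := qcqs_of_isAffine _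
  choose x hx using hy
  obtain ⟨u, hu₀⟩ := exists_glue S.X₂ Y x
  have hu : S.g.hom.app _ u = S.X₃.obj.map p.op t := by
    rw [← sub_eq_zero]
    refine EtSect.eq_zero_of_cover S.X₃ _ fun v => ?_
    obtain ⟨k, z, hz⟩ := exists_sigmaInj Y v
    refine ⟨Y k, sigmaInj Y k, ⟨z, hz⟩, ?_⟩
    rw [map_sub, ← NatTrans.naturality_apply, hu₀, ← ConcreteCategory.comp_apply (S.X₃.obj.map p.op),
      ← Functor.map_comp, ← op_comp, hpy, sub_eq_zero]
    exact hx k
  let u' := S.X₂.obj.map (pproj p 0 0).op u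
  have hd : S.g.hom.app _ (pd S.X₂.obj p u') = 0 := by
    rw [pd_natTrans, NatTrans.naturality_apply, hu, pd_proj_zero, ← ConcreteCategory.comp_apply,
      ← ConcreteCategory.comp_apply, ← Functor.map_comp, ← Functor.map_comp, ← op_comp, ← op_comp, pproj_comm,
      sub_self]
  obtain ⟨e, he⟩ := exists_of_map_g_eq_zero hS _ hd
  have he0 : pd S.X₁.obj p e = 0 := injective_f hS _ (by rw [pd_natTrans, he, pd_pd, map_zero])
  obtain ⟨h', hh'⟩ := h p hW hZ' hsurj 0 e he0
  let u'' := u' - S.f.hom.app _ h'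
  have hu'' : pd S.X₂.obj p u'' = 0 := by rw [pd_sub, ← pd_natTrans, hh', he, sub_self]
  let v₀ := S.X₂.obj.map (pone p).op u''
  have hv₀ : S.X₂.obj.map (pproj p 0 0).op v₀ = u'' := by
    change S.X₂.obj.map (pproj p 0 0).op (S.X₂.obj.map (pone p).op u'') = u''
    rw [← ConcreteCategory.comp_apply, ← Functor.map_comp, ← op_comp, proj_pone, op_id,
      CategoryTheory.Functor.map_id]
    rfl
  have hv01 : S.X₂.obj.map (pproj p 1 1).op v₀ = S.X₂.obj.map (pproj p 1 0).op v₀ := by
    rw [← sub_eq_zero, ← pd_proj_zero, hv₀, hu'']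
  obtain ⟨v, hv⟩ := exists_amalg S.X₂ (fun _ : PUnit.{u + 1} => sigmaObj Y) (fun _ => p)
    (fun w => ⟨⟨⟩, hsurj w⟩) (fun _ => v₀) fun _ _ T g₁ g₂ h12 => by
      let L := plift p (T := T) (n := 1) ![g₁, g₂] (by
        intro i
        fin_cases i
        · rfl
        · exact h12.symm)
      have l0 : L ≫ pproj p 1 0 = g₁ := plift_proj _ _ _ _
      have l1 : L ≫ pproj p 1 1 = g₂ := plift_proj _ _ _ _
      rw [← l0, ← l1, op_comp, op_comp, Functor.map_comp, Functor.map_comp, ConcreteCategory.comp_apply,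
        ConcreteCategory.comp_apply, hv01]
  refine ⟨v, sep_of_surjective p S.X₃ hsurj _ _ ?_⟩
  rw [← NatTrans.naturality_apply, show S.X₂.obj.map p.op v = v₀ from hv ⟨⟩, ← hu]
  change S.g.hom.app _ (S.X₂.obj.map (pone p).op (u' - S.f.hom.app _ h')) = _
  rw [map_sub, map_sub, ← NatTrans.naturality_apply S.f.hom, g_f_eq_zero, sub_zero]
  refine congrArg (S.g.hom.app _) ?_
  change S.X₂.obj.map (pone p).op (S.X₂.obj.map (pproj p 0 0).op u) = u
  rw [← ConcreteCategory.comp_apply, ← Functor.map_comp, ← op_comp, pone_proj, op_id,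
    CategoryTheory.Functor.map_id]
  rfl

theorem cac_quotient (hS : S.ShortExact) (h1 : CAc S.X₁) (h2 : CAc S.X₂) : CAc S.X₃ := by
  intro Z W p hW hZ hp n x hx
  obtain ⟨u, hu⟩ := surjective_sections hS h1 (qcqs_pwr p hZ hW (n + 1)) x
  obtain ⟨e, he⟩ := exists_of_map_g_eq_zero hS (pd S.X₂.obj p u) (by rw [pd_natTrans, hu, hx])
  have he0 : pd S.X₁.obj p e = 0 := injective_f hS _ (by rw [pd_natTrans, he, pd_pd, map_zero])
  obtain ⟨h', hh'⟩ := h1 p hW hZ hp (n + 1) e he0
  obtain ⟨v, hv⟩ := h2 p hW hZ hp n (u - S.f.hom.app _ h') (by rw [pd_sub, ← pd_natTrans, hh', he, sub_self])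
  exact ⟨S.g.hom.app _ v, by rw [← pd_natTrans, hv, map_sub, g_f_eq_zero, sub_zero, hu]⟩

end Groth.Agent.EtColimH
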