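import Groth.Agent.EtColimH.Main
import Groth.Agent.DQPush.HomColim
import Groth.Prelude.Def_EtCech
import Mathlib

/-! Čech cohomology of finite families of qcqs objects commutes with filtered colimits. -/

universe u

open CategoryTheory CategoryTheory.Limits AlgebraicGeometry Opposite

set_option backward.isDefEq.respectTransparency false
set_option backward.isDefEq.respectTransparency.types false

noncomputable section

namespace Groth.Agent.EtColimH

variable {X : Scheme.{u}}

theorem qcqs_prod {U : X.Etale} [HasFiniteProducts (Over U)] (hU : Qcqs U) :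
    ∀ (m : ℕ) (V : Fin (m + 1) → Over U), (∀ i, Qcqs (V i).left) → Qcqs (∏ᶜ V).left := by
  intro m
  induction m with
  | zero =>
    intro V hV
    let s : V 0 ⟶ ∏ᶜ V := Pi.lift fun i => eqToHom (by rw [Fin.fin_one_eq_zero i])
    have h1 : s ≫ Pi.π V 0 = 𝟙 _ := by simp [s]
    have h2 : Pi.π V 0 ≫ s = 𝟙 _ := Pi.hom_ext _ _ fun i => by
      obtain rfl := Fin.fin_one_eq_zero i
      rw [Category.assoc, h1, Category.comp_id, Category.id_comp]
    exact qcqs_of_iso s.left (Pi.π V 0).left (by rw [← Over.comp_left, h1]; rfl)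
      (by rw [← Over.comp_left, h2]; rfl) (hV 0)
  | succ m ih =>
    intro V hV
    let V' : Fin (m + 1) → Over U := fun i => V i.castSucc
    let P := ∏ᶜ V'
    let L := V (Fin.last (m + 1))
    let T := pb L.hom P.hom
    have hc : pbFst L.hom P.hom ≫ P.hom = pbSnd L.hom P.hom ≫ L.hom :=
      MorphismProperty.Over.Hom.ext pullback.condition
    let T' : Over U := Over.mk (pbFst L.hom P.hom ≫ P.hom)
    let a : T' ⟶ P := Over.homMk (pbFst L.hom P.hom) rfl
    let b : T' ⟶ L := Over.homMk (pbSnd L.hom P.hom) hc.symm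
    let m' : ∀ i, T' ⟶ V i :=
      Fin.lastCases (motive := fun i => T' ⟶ V i) b fun i => a ≫ Pi.π V' i
    let r : T' ⟶ ∏ᶜ V := Pi.lift m'
    let d : ∏ᶜ V ⟶ P := Pi.lift fun i => Pi.π V i.castSucc
    let e : ∏ᶜ V ⟶ L := Pi.π V (Fin.last (m + 1))
    have hq : d.left.left ≫ P.hom.left = e.left.left ≫ L.hom.left :=
      congrArg (fun k => k.left) ((Over.w d).trans (Over.w e).symm)
    let q : (∏ᶜ V).left ⟶ T := MorphismProperty.Over.homMk (pullback.lift d.left.left e.left.left hq) (by
      change pullback.lift _ _ _ ≫ pullback.fst P.hom.left L.hom.left ≫ P.left.hom = _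
      rw [pullback.lift_fst_assoc]; exact MorphismProperty.Over.w d.left)
    have hq1 : q ≫ pbFst L.hom P.hom = d.left := MorphismProperty.Over.Hom.ext (pullback.lift_fst _ _ _)
    have hq2 : q ≫ pbSnd L.hom P.hom = e.left := MorphismProperty.Over.Hom.ext (pullback.lift_snd _ _ _)
    let q' : ∏ᶜ V ⟶ T' := Over.homMk q (by
      show q ≫ pbFst L.hom P.hom ≫ P.hom = _
      rw [← Category.assoc, hq1]; exact Over.w d)
    have hra : r ≫ d = a := Pi.hom_ext _ _ fun i => by
      rw [Category.assoc, Pi.lift_π, Pi.lift_π]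
      simp [m', V']
    have hrb : r ≫ e = b := by simp [r, e, m']
    have hqa : q' ≫ a = d := Over.OverMorphism.ext hq1
    have hqb : q' ≫ b = e := Over.OverMorphism.ext hq2
    refine qcqs_of_iso r.left q ?_ ?_ (qcqs_pb L.hom P.hom (ih V' fun i => hV _) (hV _) hU)
    · apply MorphismProperty.Over.Hom.ext
      apply pullback.hom_ext
      · exact congrArg (fun k => k.left) (show (r.left ≫ q) ≫ pbFst L.hom P.hom = 𝟙 _ ≫ pbFst L.hom P.hom by
          rw [Category.assoc, hq1, ← Over.comp_left, hra, Category.id_comp]; rfl)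
      · exact congrArg (fun k => k.left) (show (r.left ≫ q) ≫ pbSnd L.hom P.hom = 𝟙 _ ≫ pbSnd L.hom P.hom by
          rw [Category.assoc, hq2, ← Over.comp_left, hrb, Category.id_comp]; rfl)
    · have h : q' ≫ r = 𝟙 _ := Pi.hom_ext _ _ fun i => by
        rw [Category.assoc, Pi.lift_π, Category.id_comp]
        induction i using Fin.lastCases with
        | last => simp only [m', Fin.lastCases_last]; exact hqb
        | cast i =>
          simp only [m', Fin.lastCases_castSucc]
          rw [← Category.assoc, hqa, Pi.lift_π]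
      exact congrArg (fun k => k.left) h

/-- a finite product of sections -/
def piSect {κ : Type (u + 1)} (W : κ → X.Etale) : EtCoh.Ab X ⥤ AddCommGrpCat.{u + 1} where
  obj F := ∏ᶜ fun i => F.obj.obj (op (W i))
  map φ := Limits.Pi.map fun i => φ.hom.app (op (W i))

/-- its projections -/
def piProj {κ : Type (u + 1)} (W : κ → X.Etale) (F : EtCoh.Ab X) (i : κ) : (piSect W).obj F ⟶ F.obj.obj (op (W i)) :=
  Pi.π _ i

theorem preservesColimitsOfShape_piSect {κ : Type (u + 1)} [Finite κ] (W : κ → X.Etale) (hW : ∀ i, Qcqs (W i))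
    (J : Type (u + 1)) [SmallCategory J] [IsFiltered J] : PreservesColimitsOfShape J (piSect W) := by
  classical
  haveI := Fintype.ofFinite κ
  refine ⟨fun {K} => ⟨fun {c} hc => ⟨?_⟩⟩⟩
  haveI : PreservesColimit (K ⋙ piSect W) (forget AddCommGrpCat.{u + 1}) := inferInstance
  haveI : ReflectsColimit (K ⋙ piSect W) (forget AddCommGrpCat.{u + 1}) :=
    reflectsColimit_of_reflectsIsomorphisms _ _
  refine isColimitOfReflects (forget AddCommGrpCat.{u + 1}) ?_
  have hπ : ∀ {A B : EtCoh.Ab X} (φ : A ⟶ B) (x : (piSect W).obj A) (i : κ),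
      piProj W B i ((piSect W).map φ x) =
        φ.hom.app (op (W i)) (piProj W A i x) := fun φ x i =>
    ConcreteCategory.congr_hom (Limits.Pi.map_π (fun i => φ.hom.app (op (W i))) i) x
  have hw : ∀ {a b : J} (k : a ⟶ b) (i : κ) (x : EtCoh.sect (K.obj a) (W i)),
      (c.ι.app b).hom.app (op (W i)) ((K.map k).hom.app (op (W i)) x) = (c.ι.app a).hom.app (op (W i)) x := fun k i x =>
    ConcreteCategory.congr_hom (congrArg (fun q => q.hom.app (op (W i))) (c.w k)) x
  refine Types.FilteredColimit.isColimitOf _ _ (fun x => ?_) fun a b xa xb hab => ?_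
  · let x' : (piSect W).obj c.pt := x
    have hrep : ∀ i, ∃ (j : J) (s : EtCoh.sect (K.obj j) (W i)),
        (c.ι.app j).hom.app (op (W i)) s = piProj W c.pt i x' := fun i => by
      haveI := (hW i).1
      haveI := (hW i).2
      exact exists_rep hc _
    choose j s hs using hrep
    obtain ⟨l, hl⟩ := IsFiltered.sup_objs_exists (Finset.univ.image j)
    let t : ∀ i, EtCoh.sect (K.obj l) (W i) := fun i =>
      (K.map (hl (Finset.mem_image_of_mem j (Finset.mem_univ i))).some).hom.app (op (W i)) (s i)
    refine ⟨l, (Concrete.productEquiv _).symm t, ?_⟩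
    show x' = (piSect W).map (c.ι.app l) ((Concrete.productEquiv _).symm t)
    refine Concrete.limit_ext (Discrete.functor fun i => c.pt.obj.obj (op (W i))) _ _ fun ⟨i⟩ => ?_
    show piProj W c.pt i x' =
      piProj W c.pt i ((piSect W).map (c.ι.app l) ((Concrete.productEquiv _).symm t))
    refine Eq.trans ?_ (hπ (c.ι.app l) ((Concrete.productEquiv _).symm t) i).symm
    refine Eq.trans ?_ (congrArg ((c.ι.app l).hom.app (op (W i))) (Concrete.productEquiv_symm_apply_π _ t i).symm)
    show piProj W c.pt i x' = (c.ι.app l).hom.app (op (W i)) (t i)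
    rw [hw, hs]
  · let l₀ := IsFiltered.max a b
    let ya : (piSect W).obj (K.obj a) := xa
    let yb : (piSect W).obj (K.obj b) := xb
    have hij : (piSect W).map (c.ι.app a) ya = (piSect W).map (c.ι.app b) yb := hab
    let A := (piSect W).map (K.map (IsFiltered.leftToMax a b)) ya
    let B := (piSect W).map (K.map (IsFiltered.rightToMax a b)) yb
    have hz : ∀ i, ∃ (k : J) (e : l₀ ⟶ k), (K.map e).hom.app (op (W i))
        (piProj W (K.obj l₀) i A - piProj W (K.obj l₀) i B) = 0 := by
      intro i
      haveI := (hW i).1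
      refine exists_zero_of_isCompact hc _ (EtSect.isClosed_sectSupp (K.obj l₀) _).isCompact ?_
      rw [map_sub, hπ, hπ, hw, hw, sub_eq_zero]
      exact (hπ (c.ι.app a) ya i).symm.trans ((congrArg (piProj W c.pt i) hij).trans (hπ (c.ι.app b) yb i))
    choose k e he using hz
    have hfin : ∀ G : Finset κ, ∃ (n : J) (q : l₀ ⟶ n), ∀ i ∈ G, (K.map q).hom.app (op (W i))
        (piProj W (K.obj l₀) i A - piProj W (K.obj l₀) i B) = 0 := by
      intro G
      induction G using Finset.induction_on with
      | empty => exact ⟨l₀, 𝟙 l₀, by simp⟩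
      | insert i G _ ih =>
        obtain ⟨n, q, hq⟩ := ih
        obtain ⟨l, u, v, huv⟩ := IsFiltered.span q (e i)
        refine ⟨l, q ≫ u, fun y hy => ?_⟩
        rcases Finset.mem_insert.mp hy with rfl | hy
        · rw [huv, Functor.map_comp]
          exact (congrArg ((K.map v).hom.app (op (W y))) (he y)).trans (map_zero _)
        · rw [Functor.map_comp]
          exact (congrArg ((K.map u).hom.app (op (W y))) (hq y hy)).trans (map_zero _)
    obtain ⟨n, q, hq⟩ := hfin Finset.univ
    refine ⟨n, IsFiltered.leftToMax a b ≫ q, IsFiltered.rightToMax a b ≫ q, ?_⟩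
    show (piSect W).map (K.map (IsFiltered.leftToMax a b ≫ q)) ya =
      (piSect W).map (K.map (IsFiltered.rightToMax a b ≫ q)) yb
    refine Concrete.limit_ext (Discrete.functor fun i => (K.obj n).obj.obj (op (W i))) _ _ fun ⟨i⟩ => ?_
    show piProj W (K.obj n) i ((piSect W).map (K.map (IsFiltered.leftToMax a b ≫ q)) ya) =
      piProj W (K.obj n) i ((piSect W).map (K.map (IsFiltered.rightToMax a b ≫ q)) yb)
    rw [hπ, hπ]
    have h := hq i (Finset.mem_univ i)
    rw [map_sub, sub_eq_zero, hπ, hπ] at h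
    rw [Functor.map_comp, Functor.map_comp]
    exact h

theorem preservesColimitsOfShape_cech (U : X.Etale) [HasFiniteProducts (Over U)] (hU : Qcqs U) {ι : Type (u + 1)}
    [Finite ι] (Uf : ι → Over U) (hUf : ∀ i, Qcqs (Uf i).left) (q : ℕ) (J : Type (u + 1)) [SmallCategory J]
    [IsFiltered J] : PreservesColimitsOfShape J
      (sheafToPresheaf X.smallEtaleTopology AddCommGrpCat.{u + 1} ⋙ EtCech.cechHFunctor Uf q) := by
  let G : EtCoh.Ab X ⥤ CochainComplex AddCommGrpCat.{u + 1} ℕ :=
    sheafToPresheaf X.smallEtaleTopology AddCommGrpCat.{u + 1} ⋙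
      (Functor.whiskeringLeft (Over U)ᵒᵖ X.Etaleᵒᵖ AddCommGrpCat.{u + 1}).obj (Over.forget U).op ⋙
        cechComplexFunctor Uf
  have hG : ∀ m, PreservesColimitsOfShape J (G ⋙ HomologicalComplex.eval _ _ m) := fun m => by
    haveI := preservesColimitsOfShape_piSect
      (fun a : Fin (m + 1) → ι => (∏ᶜ fun k => Uf (a k)).left) (fun a => qcqs_prod hU m _ fun k => hUf (a k)) J
    exact preservesColimitsOfShape_of_natIso
      (NatIso.ofComponents (fun F => Iso.refl _) fun φ => rfl :
        piSect (fun a : Fin (m + 1) → ι => (∏ᶜ fun k => Uf (a k)).left) ≅ G ⋙ HomologicalComplex.eval _ _ m)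
  haveI : PreservesColimitsOfShape J G := HomologicalComplex.preservesColimitsOfShape_of_eval G hG
  haveI := DQPush.preservesColimitsOfShape_homology (A := AddCommGrpCat.{u + 1}) (J := J) (ComplexShape.up ℕ) q
  exact preservesColimitsOfShape_of_natIso
    (NatIso.ofComponents (fun F => Iso.refl _) fun φ => rfl :
      G ⋙ HomologicalComplex.homologyFunctor _ _ q ≅
        sheafToPresheaf X.smallEtaleTopology AddCommGrpCat.{u + 1} ⋙ EtCech.cechHFunctor Uf q)

end Groth.Agent.EtColimH
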