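import Groth.Agent.EtColimH.Acyclic
import Groth.Agent.CechGen.Basic
import Groth.Agent.SiteCoh.TotAcyclicPullbacks
import Groth.Prelude.Def_EtCech
import Mathlib

/-! Sheaves flasque in the Čech sense: quotients and direct images. -/

universe w v u

open CategoryTheory CategoryTheory.Limits AlgebraicGeometry Opposite
open Groth.Agent.CechGen (Cochain cd cd_sum CechExact tupleProd tupleDrop cochainEquiv cochainEquiv_d)

set_option backward.isDefEq.respectTransparency false
set_option backward.isDefEq.respectTransparency.types false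

noncomputable section

namespace Groth.Agent.EtColimH

namespace CechAux

variable {D : Type u} [Category.{v} D] [HasFiniteProducts D] {ι : Type w} (Y : ι → D)
  (P : Dᵒᵖ ⥤ AddCommGrpCat.{w})

theorem cd_sub {n : ℕ} (x y : Cochain Y P n) : cd Y P (x - y) = cd Y P x - cd Y P y := by
  funext a
  simp only [cd_sum, Pi.sub_apply, map_sub, smul_sub, Finset.sum_sub_distrib]

theorem cd_cd {n : ℕ} (x : Cochain Y P n) : cd Y P (cd Y P x) = 0 := by
  obtain ⟨x, rfl⟩ := (cochainEquiv Y P n).surjective x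
  rw [← cochainEquiv_d, ← cochainEquiv_d, ← ConcreteCategory.comp_apply, HomologicalComplex.d_comp_d]
  exact map_zero _

theorem cd_nat {Q : Dᵒᵖ ⥤ AddCommGrpCat.{w}} (f : P ⟶ Q) {n : ℕ} (x : Cochain Y P n) :
    (fun a => f.app _ (cd Y P x a)) = cd Y Q fun a => f.app _ (x a) := by
  funext a
  simp only [cd_sum, map_sum, map_zsmul, NatTrans.naturality_apply]

theorem map_congr_tuple {n : ℕ} (x : Cochain Y P n) {T : D} {a a' : Fin (n + 1) → ι} (h : a = a')
    (m : T ⟶ tupleProd Y a) (m' : T ⟶ tupleProd Y a')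
    (hm : ∀ i, m ≫ Pi.π (Y ∘ a) i ≫ eqToHom (by rw [h]) = m' ≫ Pi.π (Y ∘ a') i) :
    P.map m.op (x a) = P.map m'.op (x a') := by
  subst h
  obtain rfl : m = m' := Pi.hom_ext _ _ fun i => by simpa using hm i
  rfl

variable {D' : Type*} [Category D'] [HasFiniteProducts D'] (G : D ⥤ D') [PreservesFiniteProducts G]

/-- the product comparison -/
def tupleIso {n : ℕ} (a : Fin (n + 1) → ι) : G.obj (tupleProd Y a) ≅ tupleProd (G.obj ∘ Y) a :=
  PreservesProduct.iso G (Y ∘ a)

theorem tupleIso_drop {n : ℕ} (a : Fin (n + 2) → ι) (k : Fin (n + 2)) :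
    G.map (tupleDrop Y a k) ≫ (tupleIso Y G (a ∘ k.succAbove)).hom =
      (tupleIso Y G a).hom ≫ tupleDrop (G.obj ∘ Y) a k := by
  refine Pi.hom_ext _ _ fun i => ?_
  simp [tupleIso, tupleDrop]
  erw [Pi.lift_π, piComparison_comp_π]

theorem cechExact_comp (Q : D'ᵒᵖ ⥤ AddCommGrpCat.{w}) (n : ℕ) (h : CechExact (G.obj ∘ Y) Q n) :
    CechExact Y (G.op ⋙ Q) n := by
  intro x hx
  have key : ∀ {m : ℕ} (z : Cochain Y (G.op ⋙ Q) m) (a : Fin (m + 2) → ι),
      cd (G.obj ∘ Y) Q (fun b => Q.map (tupleIso Y G b).inv.op (z b)) a =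
        Q.map (tupleIso Y G a).inv.op (cd Y (G.op ⋙ Q) z a) := by
    intro m z a
    rw [cd_sum, cd_sum, map_sum]
    refine Finset.sum_congr rfl fun k _ => ?_
    rw [map_zsmul]
    refine congrArg (_ • ·) ?_
    rw [Functor.comp_map, ← ConcreteCategory.comp_apply, ← ConcreteCategory.comp_apply, ← Functor.map_comp,
      ← Functor.map_comp]
    refine congrArg (fun q => Q.map q (z _)) ?_
    show _ = (G.map (tupleDrop Y a k)).op ≫ _
    rw [← op_comp, ← op_comp]
    refine congrArg Quiver.Hom.op ?_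
    rw [← Iso.cancel_iso_hom_left (tupleIso Y G a), Iso.hom_inv_id_assoc, ← Category.assoc, ← tupleIso_drop,
      Category.assoc, Iso.hom_inv_id, Category.comp_id]
  obtain ⟨y, hy⟩ := h (fun b => Q.map (tupleIso Y G b).inv.op (x b)) (funext fun a => by
    rw [key, hx]; exact map_zero _)
  refine ⟨fun a => Q.map (tupleIso Y G a).hom.op (y a), funext fun a => ?_⟩
  have h2 := key (fun a => Q.map (tupleIso Y G a).hom.op (y a)) a
  have h3 : (fun b => Q.map (tupleIso Y G b).inv.op (Q.map (tupleIso Y G b).hom.op (y b))) = y := funext fun b => by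
    rw [← ConcreteCategory.comp_apply, ← Functor.map_comp, ← op_comp, Iso.inv_hom_id, op_id,
      CategoryTheory.Functor.map_id]
    rfl
  rw [h3, hy] at h2
  have h4 := congrArg (Q.map (tupleIso Y G a).hom.op) h2.symm
  rw [← ConcreteCategory.comp_apply, ← ConcreteCategory.comp_apply, ← Functor.map_comp, ← op_comp,
    Iso.hom_inv_id, op_id, CategoryTheory.Functor.map_id] at h4
  exact h4

end CechAux

end Groth.Agent.EtColimH

namespace Groth.Agent.EtColimH

variable {X : Scheme.{u}} [∀ U : X.Etale, HasFiniteProducts (Over U)]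

/-- no higher Čech cohomology for any jointly surjective family -/
def CFl (G : EtCoh.Ab X) : Prop :=
  ∀ (U : X.Etale) (ι : Type (u + 1)) (Uf : ι → Over U),
    (∀ x : ↥(U.left), ∃ (i : ι) (y : ↥((Uf i).left.left)), (Uf i).hom.left.base y = x) →
      ∀ n : ℕ, CechExact Uf ((Over.forget U).op ⋙ G.obj) n

theorem cfl_iff (G : EtCoh.Ab X) : CFl G ↔
    ∀ (U : X.Etale) (ι : Type (u + 1)) (Uf : ι → Over U),
      (∀ x : ↥(U.left), ∃ (i : ι) (y : ↥((Uf i).left.left)), (Uf i).hom.left.base y = x) →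
        ∀ p : ℕ, 0 < p → IsZero (EtCech.cechH Uf G.obj p) := by
  constructor
  · intro h U ι Uf hU p hp
    obtain ⟨n, rfl⟩ : ∃ n, p = n + 1 := ⟨p - 1, by omega⟩
    exact (CechGen.isZero_cech_iff Uf _ n).2 (h U ι Uf hU n)
  · exact fun h U ι Uf hU n => (CechGen.isZero_cech_iff Uf _ n).1 (h U ι Uf hU (n + 1) n.succ_pos)

variable {S : ShortComplex (EtCoh.Ab X)}

theorem surjective_sections_cfl (hS : S.ShortExact) (h : CFl S.X₁) (W : X.Etale) :
    Function.Surjective (S.g.hom.app (op W)) := by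
  intro t
  haveI := hS.epi_g
  haveI : Sheaf.IsLocallySurjective S.g :=
    (Sheaf.isLocallySurjective_iff_epi' AddCommGrpCat.{u + 1} S.g).2 inferInstance
  let σ := Presheaf.imageSieve S.g.hom t
  let ι : Type (u + 1) := Σ V : X.Etale, {g : V ⟶ W // σ g}
  let Y : ι → Over W := fun i => Over.mk i.2.1
  have hcov : ∀ x : ↥(W.left), ∃ (i : ι) (y : ↥((Y i).left.left)), (Y i).hom.left.base y = x := fun x => by
    obtain ⟨V, g, hg, v, hv⟩ := exists_of_mem (Presheaf.imageSieve_mem X.smallEtaleTopology S.g.hom t) x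
    exact ⟨⟨V, g, hg⟩, v, hv⟩
  choose s hs using fun i : ι => i.2.2
  let P₁ := (Over.forget W).op ⋙ S.X₁.obj
  let P₂ := (Over.forget W).op ⋙ S.X₂.obj
  let P₃ := (Over.forget W).op ⋙ S.X₃.obj
  let f : P₁ ⟶ P₂ := Functor.whiskerLeft (Over.forget W).op S.f.hom
  let g : P₂ ⟶ P₃ := Functor.whiskerLeft (Over.forget W).op S.g.hom
  let π : ∀ (a : Fin 1 → ι), (tupleProd Y a).left ⟶ (Y (a 0)).left := fun a => (Pi.π (Y ∘ a) 0).left
  let u : Cochain Y P₂ 0 := fun a => S.X₂.obj.map (π a).op (s (a 0))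
  let c : Cochain Y P₃ 0 := fun a => S.X₃.obj.map (tupleProd Y a).hom.op t
  have hgu : (fun a => g.app _ (u a)) = c := funext fun a => by
    refine (NatTrans.naturality_apply S.g.hom (π a).op (s (a 0))).trans ?_
    refine (congrArg (S.X₃.obj.map (π a).op) (hs (a 0))).trans ?_
    refine ((ConcreteCategory.comp_apply _ _ _).symm.trans ?_)
    rw [← Functor.map_comp, ← op_comp]
    exact congrArg (fun q => S.X₃.obj.map q.op t) (Over.w (Pi.π (Y ∘ a) 0))
  have hc : cd Y P₃ c = 0 := funext fun a => by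
    have hk : ∀ k : Fin 2, P₃.map (tupleDrop Y a k).op (c (a ∘ k.succAbove)) = S.X₃.obj.map (tupleProd Y a).hom.op t :=
      fun k => by
        refine (ConcreteCategory.comp_apply _ _ _).symm.trans ?_
        rw [Functor.comp_map, ← Functor.map_comp]
        exact congrArg (fun q => S.X₃.obj.map q.op t) (Over.w (tupleDrop Y a k))
    rw [cd_sum, Fin.sum_univ_two, hk, hk]
    simp
  obtain ⟨e, he⟩ : ∃ e : Cochain Y P₁ 1, (fun a => f.app _ (e a)) = cd Y P₂ u := by
    have : ∀ a, ∃ e, f.app (op (tupleProd Y a)) e = cd Y P₂ u a := fun a =>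
      exists_of_map_g_eq_zero hS (T := (tupleProd Y a).left) (cd Y P₂ u a) (by
        show g.app _ (cd Y P₂ u a) = 0
        exact (congrFun ((CechAux.cd_nat Y P₂ g u).trans ((congrArg (cd Y P₃) hgu).trans hc)) a))
    choose e he using this
    exact ⟨e, funext he⟩
  have he0 : cd Y P₁ e = 0 := funext fun a => injective_f hS (tupleProd Y a).left (by
    show f.app _ (cd Y P₁ e a) = f.app _ 0
    rw [map_zero]
    exact congrFun ((CechAux.cd_nat Y P₁ f e).trans ((congrArg (cd Y P₂) he).trans (CechAux.cd_cd Y P₂ u))) a)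
  obtain ⟨h', hh'⟩ := h W ι Y hcov 0 e he0
  let u' : Cochain Y P₂ 0 := u - fun a => f.app _ (h' a)
  have hu' : cd Y P₂ u' = 0 := by
    rw [CechAux.cd_sub, ← CechAux.cd_nat Y P₁ f h', hh', he, sub_self]
  let sec : ∀ i : ι, Y i ⟶ tupleProd Y (n := 0) (fun _ => i) := fun i => Pi.lift fun _ => 𝟙 (Y i)
  obtain ⟨v, hv⟩ := exists_amalg S.X₂ (fun i : ι => (Y i).left) (fun i => (Y i).hom)
    (fun x => by obtain ⟨i, y, hy⟩ := hcov x; exact ⟨i, y, hy⟩)
    (fun i => P₂.map (sec i).op (u' fun _ => i)) fun i k T a b hab => by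
      let T' : Over W := Over.mk (a ≫ (Y i).hom)
      let a' : T' ⟶ Y i := Over.homMk a rfl
      let b' : T' ⟶ Y k := Over.homMk b hab.symm
      let m : Fin 2 → ι := ![i, k]
      let L : T' ⟶ tupleProd Y m := Pi.lift fun j => Fin.cases (motive := fun j => T' ⟶ Y (m j)) a' (fun j => b' ≫ eqToHom (by obtain rfl := Fin.fin_one_eq_zero j; rfl)) j
      have h2 := congrArg (P₂.map L.op) (congrFun hu' m)
      rw [cd_sum, Fin.sum_univ_two, map_add, Pi.zero_apply, map_zero, map_zsmul, map_zsmul] at h2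
      simp only [Fin.val_zero, pow_zero, one_smul, Fin.val_one, pow_one, neg_smul, ← sub_eq_add_neg, sub_eq_zero] at h2
      show P₂.map a'.op (P₂.map (sec i).op (u' fun _ => i)) = P₂.map b'.op (P₂.map (sec k).op (u' fun _ => k))
      simp only [← ConcreteCategory.comp_apply, ← Functor.map_comp, ← op_comp] at h2 ⊢
      refine Eq.trans ?_ (h2.symm.trans ?_)
      · refine CechAux.map_congr_tuple Y P₂ u' (by funext j; obtain rfl := Fin.fin_one_eq_zero j; rfl) _ _ fun j => ?_
        obtain rfl := Fin.fin_one_eq_zero j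
        simp [sec, L, tupleDrop, m]
        rfl
      · refine CechAux.map_congr_tuple Y P₂ u' (by funext j; obtain rfl := Fin.fin_one_eq_zero j; rfl) _ _ fun j => ?_
        obtain rfl := Fin.fin_one_eq_zero j
        simp [sec, L, tupleDrop, m]
        exact Category.comp_id b'
  refine ⟨v, ?_⟩
  rw [← sub_eq_zero]
  refine EtSect.eq_zero_of_cover S.X₃ _ fun x => ?_
  obtain ⟨i, y, hy⟩ := hcov x
  refine ⟨(Y i).left, (Y i).hom, ⟨y, hy⟩, ?_⟩
  rw [map_sub, ← NatTrans.naturality_apply, hv i, sub_eq_zero]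
  refine (NatTrans.naturality_apply g (sec i).op (u' fun _ => i)).trans ?_
  have hfg : g.app (op (tupleProd Y fun _ => i)) (u' fun _ => i) = c fun _ => i := by
    refine (map_sub _ _ _).trans ?_
    rw [show g.app _ (f.app (op (tupleProd Y fun _ => i)) (h' fun _ => i)) = 0 from g_f_eq_zero _, sub_zero]
    exact congrFun hgu _
  rw [hfg]
  refine (ConcreteCategory.comp_apply _ _ _).symm.trans ?_
  rw [Functor.comp_map, ← Functor.map_comp]
  exact congrArg (fun q => S.X₃.obj.map q.op t) (Over.w (sec i))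

theorem cfl_quotient (hS : S.ShortExact) (h1 : CFl S.X₁) (h2 : CFl S.X₂) : CFl S.X₃ := by
  intro U ι Uf hU n x hx
  let P₁ := (Over.forget U).op ⋙ S.X₁.obj
  let P₂ := (Over.forget U).op ⋙ S.X₂.obj
  let P₃ := (Over.forget U).op ⋙ S.X₃.obj
  let f : P₁ ⟶ P₂ := Functor.whiskerLeft (Over.forget U).op S.f.hom
  let g : P₂ ⟶ P₃ := Functor.whiskerLeft (Over.forget U).op S.g.hom
  choose u₀ hu using fun a => surjective_sections_cfl hS h1 (tupleProd Uf a).left (x a)
  let u : Cochain Uf P₂ (n + 1) := u₀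
  have hgu : (fun a => g.app _ (u a)) = x := funext hu
  have : ∀ a, ∃ e, f.app (op (tupleProd Uf a)) e = cd Uf P₂ u a := fun a =>
    exists_of_map_g_eq_zero hS (T := (tupleProd Uf a).left) (cd Uf P₂ u a) (by
      show g.app _ (cd Uf P₂ u a) = 0
      exact congrFun ((CechAux.cd_nat Uf P₂ g u).trans ((congrArg (cd Uf P₃) hgu).trans hx)) a)
  choose e he using this
  have he' : (fun a => f.app _ (e a)) = cd Uf P₂ u := funext he
  have he0 : cd Uf P₁ e = 0 := funext fun a => injective_f hS (tupleProd Uf a).left (by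
    show f.app _ (cd Uf P₁ e a) = f.app _ 0
    rw [map_zero]
    exact congrFun ((CechAux.cd_nat Uf P₁ f e).trans ((congrArg (cd Uf P₂) he').trans (CechAux.cd_cd Uf P₂ u))) a)
  obtain ⟨h', hh'⟩ := h1 U ι Uf hU (n + 1) e he0
  obtain ⟨v, hv⟩ := h2 U ι Uf hU n (u - fun a => f.app _ (h' a))
    (by rw [CechAux.cd_sub, ← CechAux.cd_nat Uf P₁ f h', hh', he', sub_self])
  refine ⟨fun a => g.app _ (v a), ?_⟩
  rw [← CechAux.cd_nat Uf P₂ g v, hv]
  funext a
  refine (map_sub _ _ _).trans ?_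
  rw [show g.app _ (f.app (op (tupleProd Uf a)) (h' a)) = 0 from g_f_eq_zero _, sub_zero]
  exact hu a

theorem cfl_push {Y : Scheme.{u}} [∀ V : Y.Etale, HasFiniteProducts (Over V)] (f : X ⟶ Y) [EtCoh.BCCont f]
    {F : EtCoh.Ab X} (hF : CFl F) : CFl ((EtCoh.push f).obj F) := by
  intro V ι Vf hV n
  haveI : PreservesFiniteLimits (EtCoh.bc f) := inferInstance
  let Φ : Over V ⥤ Over ((EtCoh.bc f).obj V) := Over.post (EtCoh.bc f)
  haveI : PreservesFiniteProducts Φ := SiteCoh.preservesFiniteProducts_post (EtCoh.bc f) V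
  refine CechAux.cechExact_comp Vf Φ ((Over.forget ((EtCoh.bc f).obj V)).op ⋙ F.obj) n ?_
  refine hF _ ι _ (fun x => ?_) n
  let v : V.left ⟶ Y := V.hom
  obtain ⟨i, y, hy⟩ := hV ((pullback.fst v f : pullback v f ⟶ V.left) x)
  let g : (Vf i).left.left ⟶ V.left := (Vf i).hom.left
  let w : (Vf i).left.left ⟶ Y := (Vf i).left.hom
  have hw : g ≫ v = w := Over.w (Vf i).hom.hom
  let M : pullback w f ⟶ pullback v f := pullback.map w f v f g (𝟙 X) (𝟙 Y)
    (by rw [Category.comp_id]; exact hw.symm) (by simp)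
  have hM : x ∈ Set.range M := by
    rw [Scheme.Pullback.range_map]
    exact ⟨⟨y, hy⟩, ⟨_, rfl⟩⟩
  obtain ⟨z, hz⟩ := hM
  exact ⟨i, z, hz⟩

end Groth.Agent.EtColimH
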