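import Groth.Agent.EtColimH.Main
import Groth.Agent.EtCons.IndCons
import Mathlib

/-! Localisation of abelian sheaves as a filtered colimit of multiplications. -/

universe u

open CategoryTheory CategoryTheory.Limits AlgebraicGeometry Opposite

set_option backward.isDefEq.respectTransparency false
set_option backward.isDefEq.respectTransparency.types false

noncomputable section

namespace Groth.Agent.EtColimH

/-- denominators -/
structure Denom (S : Submonoid ℤ) : Type (u + 1) where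
  /-- the denominator -/
  down : ULift.{u + 1} S

/-- the denominator as an integer -/
abbrev Denom.val {S : Submonoid ℤ} (a : Denom.{u} S) : ℤ := a.down.down.1

instance (S : Submonoid ℤ) : SmallCategory (Denom.{u} S) where
  Hom a b := ULift.{u + 1} {t : S // (t : ℤ) * a.val = b.val}
  id a := ⟨⟨1, one_mul a.val⟩⟩
  comp {a b c} f g := ⟨⟨g.down.1 * f.down.1, by rw [Submonoid.coe_mul, mul_assoc, f.down.2, g.down.2]⟩⟩
  id_comp f := ULift.ext _ _ (Subtype.ext (mul_one _))
  comp_id f := ULift.ext _ _ (Subtype.ext (one_mul _))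
  assoc f g h := ULift.ext _ _ (Subtype.ext (mul_assoc _ _ _).symm)

/-- the multiplier of a morphism -/
abbrev Denom.fac {S : Submonoid ℤ} {a b : Denom.{u} S} (f : a ⟶ b) : ℤ := f.down.1.1

/-- an object -/
abbrev Denom.mk' {S : Submonoid ℤ} (s : S) : Denom.{u} S := ⟨⟨s⟩⟩

instance (S : Submonoid ℤ) : IsFiltered (Denom.{u} S) where
  cocone_objs a b := ⟨Denom.mk' (a.down.down * b.down.down), ⟨⟨b.down.down, mul_comm _ _⟩⟩,
    ⟨⟨a.down.down, rfl⟩⟩, trivial⟩
  cocone_maps {a b} f g := ⟨Denom.mk' (a.down.down * b.down.down), ⟨⟨a.down.down, rfl⟩⟩, by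
    refine ULift.ext _ _ (Subtype.ext (Subtype.ext ?_))
    show a.val * f.down.1.1 = a.val * g.down.1.1
    rw [mul_comm, f.down.2, mul_comm, g.down.2]⟩
  nonempty := ⟨Denom.mk' 1⟩

variable {X : Scheme.{u}}

theorem zsmul_id_app (F : EtCoh.Ab X) (n : ℤ) (U : X.Etale) (s : EtCoh.sect F U) :
    (n • 𝟙 F : F ⟶ F).hom.app (op U) s = n • s := rfl

variable (S : Submonoid ℤ) {F G : EtCoh.Ab X} (φ : F ⟶ G)
  (hφ : ∀ U : X.Etale, IsAffine U.left → IsLocalizedModule S (φ.hom.app (op U)).hom.toIntLinearMap)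

theorem exists_affine_sub (V : X.Etale) (x : V.left) :
    ∃ (V' : X.Etale) (g : V' ⟶ V), IsAffine V'.left ∧ x ∈ Set.range g.left := by
  obtain ⟨_, ⟨O, hO, rfl⟩, hxO, -⟩ := V.left.isBasis_affineOpens.exists_subset_of_mem_open (Set.mem_univ x) isOpen_univ
  have := V.prop
  exact ⟨Scheme.Etale.mk (Scheme.Opens.ι O ≫ V.hom), MorphismProperty.Over.homMk (Scheme.Opens.ι O) rfl, hO,
    (⟨x, hxO⟩ : O), rfl⟩

include hφ in
theorem bijective_zsmul (s : S) (U : X.Etale) [IsAffine U.left] :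
    Function.Bijective fun y : EtCoh.sect G U => (s : ℤ) • y := by
  haveI := hφ U ‹_›
  exact (Module.End.isUnit_iff _).1 (IsLocalizedModule.map_units (φ.hom.app (op U)).hom.toIntLinearMap s)

include hφ in
theorem isIso_zsmul (s : S) : IsIso ((s : ℤ) • 𝟙 G) := by
  haveI : Sheaf.IsLocallyInjective ((s : ℤ) • 𝟙 G) := by
    refine ⟨fun {U} a b hab => (EtFLC.mem_iff _).2 fun x => ?_⟩
    obtain ⟨V, g, hV, w, hw⟩ := exists_affine_sub U.unop x
    haveI := hV
    refine ⟨V, g, w, (bijective_zsmul S φ hφ s V).1 ?_, hw⟩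
    have h : (s : ℤ) • a = (s : ℤ) • b := hab
    show (s : ℤ) • G.obj.map g.op a = (s : ℤ) • G.obj.map g.op b
    rw [← map_zsmul, ← map_zsmul, h]
  haveI : Sheaf.IsLocallySurjective ((s : ℤ) • 𝟙 G) := ⟨fun {U} t => (EtFLC.mem_iff _).2 fun x => by
    obtain ⟨V, g, hV, w, hw⟩ := exists_affine_sub U x
    haveI := hV
    obtain ⟨r, hr⟩ := (bijective_zsmul S φ hφ s V).2 (G.obj.map g.op t)
    exact ⟨V, g, w, ⟨r, hr⟩, hw⟩⟩
  haveI := Sheaf.mono_of_isLocallyInjective ((s : ℤ) • 𝟙 G)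
  haveI : Epi ((s : ℤ) • 𝟙 G) :=
    (Sheaf.isLocallySurjective_iff_epi' AddCommGrpCat.{u + 1} _).1 inferInstance
  exact isIso_of_mono_of_epi _

/-- multiplications on a sheaf -/
def locDiagram (F : EtCoh.Ab X) : Denom.{u} S ⥤ EtCoh.Ab X where
  obj _ := F
  map f := Denom.fac f • 𝟙 F
  map_id a := one_zsmul _
  map_comp {a b c} f g := by
    show ((g.down.1 * f.down.1 : S) : ℤ) • 𝟙 F = (f.down.1.1 • 𝟙 F) ≫ (g.down.1.1 • 𝟙 F)
    rw [Preadditive.zsmul_comp, Category.id_comp, smul_smul, Submonoid.coe_mul, mul_comm]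

/-- the fraction cocone -/
def locCocone : Cocone (locDiagram S F) where
  pt := G
  ι :=
    { app := fun a => haveI := isIso_zsmul S φ hφ a.down.down; φ ≫ inv (a.val • 𝟙 G)
      naturality := fun a b f => by
        haveI := isIso_zsmul S φ hφ a.down.down
        haveI := isIso_zsmul S φ hφ b.down.down
        show (Denom.fac f • 𝟙 F) ≫ φ ≫ inv (b.val • 𝟙 G) = (φ ≫ inv (a.val • 𝟙 G)) ≫ 𝟙 G
        have h : inv (a.val • 𝟙 G) = Denom.fac f • inv (b.val • 𝟙 G) := by
          refine IsIso.inv_eq_of_hom_inv_id ?_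
          have h2 : b.val • inv (b.val • 𝟙 G) = 𝟙 G := by
            have := IsIso.hom_inv_id (b.val • 𝟙 G)
            rwa [Preadditive.zsmul_comp, Category.id_comp] at this
          rw [Preadditive.zsmul_comp, Category.id_comp, smul_smul, mul_comm, f.down.2, h2]
        rw [Category.comp_id, h, Preadditive.zsmul_comp, Category.id_comp, Preadditive.comp_zsmul] }

/-- the fraction map -/
abbrev frac (a : Denom.{u} S) : F ⟶ G := (locCocone S φ hφ).ι.app a

theorem locCocone_spec (a : Denom.{u} S) : frac S φ hφ a ≫ (a.val • 𝟙 G) = φ := by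
  haveI := isIso_zsmul S φ hφ a.down.down
  show (φ ≫ inv (a.val • 𝟙 G)) ≫ (a.val • 𝟙 G) = φ
  rw [Category.assoc, IsIso.inv_hom_id, Category.comp_id]

theorem locCocone_spec_apply (a : Denom.{u} S) (U : X.Etale) (s : EtCoh.sect F U) :
    a.val • ((frac S φ hφ a).hom.app (op U) s : EtCoh.sect G U) = φ.hom.app (op U) s :=
  ConcreteCategory.congr_hom (congr_app (congrArg (fun q => q.hom) (locCocone_spec S φ hφ a)) (op U)) s

theorem nonempty_isColimit_locCocone : Nonempty (IsColimit (locCocone S φ hφ)) := by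
  refine EtCons.nonempty_isColimit_of_sections _ (fun U t x => ?_) (fun U j s hs x => ?_)
  · obtain ⟨V, g, hV, hx⟩ := exists_affine_sub U x
    haveI := hφ V hV
    haveI := hV
    obtain ⟨⟨r, d⟩, hd⟩ := IsLocalizedModule.surj S (φ.hom.app (op V)).hom.toIntLinearMap (G.obj.map g.op t)
    refine ⟨V, g, hx, Denom.mk' d, r, (bijective_zsmul S φ hφ d V).1 ?_⟩
    exact (locCocone_spec_apply S φ hφ (Denom.mk' d) V r).trans hd.symm
  · obtain ⟨V, g, hV, hx⟩ := exists_affine_sub U x
    haveI := hφ V hV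
    have h0 : φ.hom.app (op V) (F.obj.map g.op s) = φ.hom.app (op V) 0 := by
      have h1 : (frac S φ hφ j).hom.app (op V) (F.obj.map g.op s) = 0 :=
        (NatTrans.naturality_apply (frac S φ hφ j).hom g.op s).trans ((congrArg (G.obj.map g.op) hs).trans (map_zero _))
      rw [← locCocone_spec_apply S φ hφ j V, map_zero]
      exact (congrArg (j.val • ·) h1).trans (zsmul_zero _)
    obtain ⟨c, hc⟩ := IsLocalizedModule.exists_of_eq (S := S) (f := (φ.hom.app (op V)).hom.toIntLinearMap) h0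
    refine ⟨V, g, hx, Denom.mk' (c * j.down.down), ⟨⟨c, rfl⟩⟩, ?_⟩
    exact hc.trans (zsmul_zero _)

include hφ in
theorem isLocalizedModule_map (Φ : EtCoh.Ab X ⥤ AddCommGrpCat.{u + 1}) [Φ.Additive]
    [PreservesColimitsOfShape (Denom.{u} S) Φ] : IsLocalizedModule S (Φ.map φ).hom.toIntLinearMap := by
  obtain ⟨hc⟩ := nonempty_isColimit_locCocone S φ hφ
  have hcol := isColimitOfPreserves Φ hc
  refine ⟨fun s => ?_, fun y => ?_, fun {x₁ x₂} h => ?_⟩
  · haveI := isIso_zsmul S φ hφ s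
    refine (Module.End.isUnit_iff _).2 ?_
    have h : Function.Bijective (Φ.map ((s : ℤ) • 𝟙 G)) := ConcreteCategory.bijective_of_isIso _
    rw [Functor.map_zsmul, CategoryTheory.Functor.map_id] at h
    exact h
  · obtain ⟨a, x, hx⟩ := Concrete.isColimit_exists_rep _ hcol y
    refine ⟨⟨x, a.down.down⟩, ?_⟩
    have h := ConcreteCategory.congr_hom (congrArg Φ.map (locCocone_spec S φ hφ a)) x
    rw [Functor.map_comp, ConcreteCategory.comp_apply, Functor.map_zsmul, CategoryTheory.Functor.map_id] at h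
    subst hx
    exact h
  · let o : Denom.{u} S := Denom.mk' 1
    have e : frac S φ hφ o = φ := by
      refine Eq.trans ?_ (locCocone_spec S φ hφ o)
      rw [show (o.val • 𝟙 G) = 𝟙 G from one_zsmul _, Category.comp_id]
    have h' : (Φ.mapCocone (locCocone S φ hφ)).ι.app o x₁ = (Φ.mapCocone (locCocone S φ hφ)).ι.app o x₂ := by
      show Φ.map (frac S φ hφ o) x₁ = Φ.map (frac S φ hφ o) x₂
      rw [e]
      exact h
    obtain ⟨k, a, ha⟩ := (IsColimit.eq_iff' hcol x₁ x₂).1 h'
    refine ⟨a.down.1, ?_⟩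
    change Φ.map (Denom.fac a • 𝟙 F) x₁ = Φ.map (Denom.fac a • 𝟙 F) x₂ at ha
    rw [Functor.map_zsmul, CategoryTheory.Functor.map_id] at ha
    exact ha

end Groth.Agent.EtColimH
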