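import Groth.Agent.EpsLan.Pwr
import Groth.Agent.EtColimH.Local
import Groth.Agent.EtFLC.Site
import Mathlib

/-! Fibre powers of morphisms of quasi-compact quasi-separated etale objects and finite refinements. -/

universe u

open CategoryTheory CategoryTheory.Limits AlgebraicGeometry Opposite
open Groth.Agent.EpsLan (pwr pwrO pproj pdrop plift plift_proj pdrop_proj pwr_hom_ext pproj_comm pproj_comp pone pone_proj proj_pone)

set_option backward.isDefEq.respectTransparency false
set_option backward.isDefEq.respectTransparency.types false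

noncomputable section

namespace Groth.Agent.EtColimH

open Groth.Agent.EtSect (etale_left)

variable {X : Scheme.{u}}

/-- quasi-compact and quasi-separated objects -/
def Qcqs (W : X.Etale) : Prop := CompactSpace W.left ∧ QuasiSeparatedSpace W.left

theorem qcqs_of_isAffine (W : X.Etale) [IsAffine W.left] : Qcqs W := ⟨inferInstance, inferInstance⟩

theorem qcqs_of_iso {A B : X.Etale} (a : A ⟶ B) (b : B ⟶ A) (hab : a ≫ b = 𝟙 A) (hba : b ≫ a = 𝟙 B)
    (h : Qcqs A) : Qcqs B := by
  haveI : IsIso a.left := ⟨b.left,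
    (MorphismProperty.Comma.comp_left a b).symm.trans (congrArg (fun m => m.left) hab),
    (MorphismProperty.Comma.comp_left b a).symm.trans (congrArg (fun m => m.left) hba)⟩
  haveI : IsIso b.left := ⟨a.left,
    (MorphismProperty.Comma.comp_left b a).symm.trans (congrArg (fun m => m.left) hba),
    (MorphismProperty.Comma.comp_left a b).symm.trans (congrArg (fun m => m.left) hab)⟩
  haveI := h.1
  haveI := h.2
  haveI : Surjective b.left := ⟨fun x => ⟨a.left x, by
    rw [← EtFLC.comp_left_apply, hab]; rfl⟩⟩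
  refine ⟨⟨?_⟩, quasiSeparatedSpace_of_quasiSeparated b.left⟩
  rw [← Set.range_eq_univ.2 a.left.surjective]
  exact isCompact_range a.left.continuous

variable {Z W : X.Etale} (p : Z ⟶ W)

/-- the fibre product of two objects over a third -/
def pb {P : X.Etale} (a : P ⟶ W) : X.Etale :=
  haveI := P.prop
  haveI := etale_left a
  haveI := etale_left p
  Scheme.Etale.mk (pullback.fst a.left p.left ≫ P.hom)

/-- its first projection -/
def pbFst {P : X.Etale} (a : P ⟶ W) : pb p a ⟶ P := MorphismProperty.Over.homMk (pullback.fst a.left p.left) rfl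

/-- its second projection -/
def pbSnd {P : X.Etale} (a : P ⟶ W) : pb p a ⟶ Z :=
  MorphismProperty.Over.homMk (pullback.snd a.left p.left) (by
    change _ = pullback.fst a.left p.left ≫ P.hom
    rw [← MorphismProperty.Over.w p, ← Category.assoc, ← pullback.condition, Category.assoc,
      MorphismProperty.Over.w a])

theorem qcqs_pb {P : X.Etale} (a : P ⟶ W) (hP : Qcqs P) (hZ : Qcqs Z) (hW : Qcqs W) : Qcqs (pb p a) := by
  haveI := hP.1; haveI := hP.2; haveI := hZ.1; haveI := hZ.2; haveI := hW.2
  haveI : QuasiCompact p.left := inferInstance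
  haveI : QuasiSeparated p.left := inferInstance
  exact ⟨QuasiCompact.compactSpace_of_compactSpace (pullback.fst a.left p.left),
    quasiSeparatedSpace_of_quasiSeparated (pullback.fst a.left p.left)⟩

theorem qcqs_pwr (hZ : Qcqs Z) (hW : Qcqs W) : ∀ n, Qcqs (pwr p n) := by
  intro n
  induction n with
  | zero => exact qcqs_of_iso (pone p) (pproj p 0 0) (pone_proj p) (proj_pone p) hZ
  | succ n ih =>
    let a : pwr p n ⟶ W := pproj p n 0 ≫ p
    have hc : pbFst p a ≫ a = pbSnd p a ≫ p := MorphismProperty.Over.Hom.ext pullback.condition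
    let m : Fin (n + 2) → (pb p a ⟶ Z) :=
      Fin.lastCases (motive := fun _ => pb p a ⟶ Z) (pbSnd p a) fun i => pbFst p a ≫ pproj p n i
    have hm : ∀ i, m i ≫ p = pbSnd p a ≫ p := fun i => by
      induction i using Fin.lastCases with
      | last => simp only [m, Fin.lastCases_last]
      | cast i => simp only [m, Fin.lastCases_castSucc, Category.assoc, pproj_comm p n i 0]; exact hc
    let r : pb p a ⟶ pwr p (n + 1) := plift p m fun i => (hm i).trans (hm 0).symm
    let d : pwr p (n + 1) ⟶ pwr p n := pdrop p n (Fin.last (n + 1))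
    have hd : ∀ i, d ≫ pproj p n i = pproj p (n + 1) i.castSucc := fun i => by
      rw [pdrop_proj, Fin.succAbove_last]
    have hq : d.left ≫ a.left = (pproj p (n + 1) (Fin.last (n + 1))).left ≫ p.left := by
      rw [← MorphismProperty.Comma.comp_left, ← MorphismProperty.Comma.comp_left]
      show (d ≫ pproj p n 0 ≫ p).left = _
      rw [reassoc_of% (hd 0), pproj_comm p (n + 1) _ (Fin.last (n + 1))]
    let q : pwr p (n + 1) ⟶ pb p a := MorphismProperty.Over.homMk (pullback.lift d.left _ hq) (by
      change pullback.lift _ _ _ ≫ pullback.fst a.left p.left ≫ (pwr p n).hom = _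
      rw [pullback.lift_fst_assoc]; exact MorphismProperty.Over.w d)
    have hq1 : q ≫ pbFst p a = d := MorphismProperty.Over.Hom.ext (pullback.lift_fst _ _ _)
    have hq2 : q ≫ pbSnd p a = pproj p (n + 1) (Fin.last (n + 1)) :=
      MorphismProperty.Over.Hom.ext (pullback.lift_snd _ _ _)
    have hrd : r ≫ d = pbFst p a := by
      refine pwr_hom_ext _ _ fun i => ?_
      rw [Category.assoc, hd, plift_proj]
      simp only [m, Fin.lastCases_castSucc]
    refine qcqs_of_iso r q ?_ ?_ (qcqs_pb p a ih hZ hW)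
    · apply MorphismProperty.Over.Hom.ext
      apply pullback.hom_ext
      · exact congrArg (fun k => k.left) (show (r ≫ q) ≫ pbFst p a = 𝟙 _ ≫ pbFst p a by
          rw [Category.assoc, hq1, hrd, Category.id_comp])
      · exact congrArg (fun k => k.left) (show (r ≫ q) ≫ pbSnd p a = 𝟙 _ ≫ pbSnd p a by
          rw [Category.assoc, hq2, plift_proj]; simp [m])
    · refine pwr_hom_ext _ _ fun i => ?_
      rw [Category.assoc, plift_proj, Category.id_comp]
      induction i using Fin.lastCases with
      | last => simp only [m, Fin.lastCases_last]; exact hq2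
      | cast i =>
        simp only [m, Fin.lastCases_castSucc]
        rw [← Category.assoc, hq1, hd]

/-- sections agreeing after a surjection agree -/
theorem sep_of_surjective (G : EtCoh.Ab X) (hp : Function.Surjective p.left) (s t : EtCoh.sect G W)
    (h : G.obj.map p.op s = G.obj.map p.op t) : s = t := by
  rw [← sub_eq_zero]
  refine EtSect.eq_zero_of_cover G _ fun v => ⟨Z, p, ?_, by rw [map_sub, h, sub_self]⟩
  exact hp v

/-- a finite disjoint union -/
def sigmaObj {ι : Type} (Y : ι → X.Etale) : X.Etale :=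
  haveI : Etale (Sigma.desc fun k => (Y k).hom) := IsZariskiLocalAtSource.sigmaDesc (P := @Etale) fun k => (Y k).prop
  Scheme.Etale.mk (Sigma.desc fun k => (Y k).hom)

/-- its inclusions -/
def sigmaInj {ι : Type} (Y : ι → X.Etale) (k : ι) : Y k ⟶ sigmaObj Y :=
  MorphismProperty.Over.homMk (Sigma.ι (fun k => (Y k).left) k) (Sigma.ι_desc _ _)

theorem exists_sigmaInj {ι : Type} (Y : ι → X.Etale) (v : (sigmaObj Y).left) :
    ∃ (k : ι) (y : (Y k).left), (sigmaInj Y k).left y = v := by
  obtain ⟨z, hz⟩ := (sigmaOpenCover fun k => (Y k).left).covers v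
  exact ⟨_, z, hz⟩

/-- gluing on a disjoint union -/
theorem exists_glue (G : EtCoh.Ab X) {ι : Type} (Y : ι → X.Etale) (t : ∀ k, EtCoh.sect G (Y k)) :
    ∃ s : EtCoh.sect G (sigmaObj Y), ∀ k, G.obj.map (sigmaInj Y k).op s = t k := by
  refine exists_amalg G Y (sigmaInj Y) (fun v => ?_) t fun k l T a b hab => ?_
  · obtain ⟨k, y, hy⟩ := exists_sigmaInj Y v
    exact ⟨k, y, hy⟩
  · haveI hj : ∀ k, IsOpenImmersion (sigmaInj Y k).left := fun k =>
      inferInstanceAs (IsOpenImmersion (Sigma.ι (fun k => (Y k).left) k))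
    by_cases hne : k = l
    · subst hne
      have : a = b := by
        apply MorphismProperty.Over.Hom.ext
        exact (cancel_mono (sigmaInj Y k).left).mp (congrArg (fun f => f.left) hab)
      rw [this]
    · haveI : IsEmpty T.left := ⟨fun v => by
        have h : (sigmaInj Y k).left (a.left v) = (sigmaInj Y l).left (b.left v) :=
          congrArg (fun f : T ⟶ sigmaObj Y => f.left v) hab
        have hd := TopologicalSpace.Opens.coe_disjoint.mpr (disjoint_opensRange_sigmaι (fun k => (Y k).left) k l hne)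
        exact Set.disjoint_left.mp hd ⟨a.left v, rfl⟩ ⟨b.left v, h.symm⟩⟩
      exact sub_eq_zero.mp (EtSect.eq_zero_of_cover G _ fun v => isEmptyElim v)

/-- a covering sieve is refined by one surjection from a finite union of affines -/
theorem exists_refine (hW : Qcqs W) (R : Sieve W) (hR : R ∈ X.smallEtaleTopology W) :
    ∃ (ι : Type) (Y : ι → X.Etale) (y : ∀ k, Y k ⟶ W) (q : sigmaObj Y ⟶ W),
      (∀ k, R (y k)) ∧ (∀ k, sigmaInj Y k ≫ q = y k) ∧ IsAffine (sigmaObj Y).left ∧ Function.Surjective q.left := by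
  classical
  haveI := hW.1
  have hloc : ∀ x : W.left, ∃ (T : X.Etale) (g : T ⟶ W), IsAffine T.left ∧ R g ∧ x ∈ Set.range g.left := by
    intro x
    obtain ⟨T, g, hg, t, ht⟩ := exists_of_mem hR x
    obtain ⟨_, ⟨O, hO, rfl⟩, htO, -⟩ := T.left.isBasis_affineOpens.exists_subset_of_mem_open
      (Set.mem_univ t) isOpen_univ
    have := T.prop
    let T' : X.Etale := Scheme.Etale.mk (Scheme.Opens.ι O ≫ T.hom)
    let i : T' ⟶ T := MorphismProperty.Over.homMk (Scheme.Opens.ι O) rfl
    refine ⟨T', i ≫ g, hO, R.downward_closed hg i, (⟨t, htO⟩ : O), ?_⟩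
    exact ht
  choose T g hT hg hx using hloc
  obtain ⟨F, hF⟩ := isCompact_univ.elim_finite_subcover (fun x => Set.range (g x).left)
    (fun x => by haveI := etale_left (g x); exact (g x).left.isOpenMap.isOpen_range)
    (fun x _ => Set.mem_iUnion.mpr ⟨x, hx x⟩)
  let Y : Fin F.card → X.Etale := fun k => T (F.equivFin.symm k).1
  haveI : ∀ k, IsAffine (Y k).left := fun k => hT _
  haveI : IsAffine (sigmaObj Y).left := inferInstanceAs (IsAffine (∐ fun k => (Y k).left))
  let q : sigmaObj Y ⟶ W := MorphismProperty.Over.homMk (Sigma.desc fun k => (g (F.equivFin.symm k).1).left) (by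
    refine Sigma.hom_ext _ _ fun k => ?_
    rw [← Category.assoc, Sigma.ι_desc]
    refine (MorphismProperty.Over.w (g (F.equivFin.symm k).1)).trans ?_
    exact (Sigma.ι_desc (fun k => (Y k).hom) k).symm)
  have hq : ∀ k, sigmaInj Y k ≫ q = g (F.equivFin.symm k).1 := fun k =>
    MorphismProperty.Over.Hom.ext (Sigma.ι_desc _ k)
  refine ⟨Fin F.card, Y, fun k => g _, q, fun k => hg _, hq, inferInstance, fun v => ?_⟩
  obtain ⟨x, hxF, w, hw⟩ := Set.mem_iUnion₂.1 (hF (Set.mem_univ v))
  have h := hq (F.equivFin ⟨x, hxF⟩)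
  have key : ∀ z : F, z = ⟨x, hxF⟩ → v ∈ Set.range (g z.1).left := by
    rintro _ rfl; exact ⟨w, hw⟩
  obtain ⟨w', hw'⟩ := key _ (Equiv.symm_apply_apply F.equivFin ⟨x, hxF⟩)
  refine ⟨(sigmaInj Y (F.equivFin ⟨x, hxF⟩)).left w', ?_⟩
  rw [← EtFLC.comp_left_apply, h]
  exact hw'

end Groth.Agent.EtColimH
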