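import Groth.Agent.EtColimH.Power
import Mathlib

/-! Sections of filtered colimits of etale sheaves of sets. -/

set_option autoImplicit false
set_option backward.isDefEq.respectTransparency false
set_option backward.isDefEq.respectTransparency.types false

universe u

open CategoryTheory CategoryTheory.Limits AlgebraicGeometry Opposite

noncomputable section

namespace Groth.Agent.EtColimH

open Groth.Agent.EtSect (etale_left)

variable {S : Scheme.{u}}

theorem set_isSheafFor (G : Sheaf S.smallEtaleTopology (Type (u + 1))) {P : S.Etale} {ι : Type*} (Z : ι → S.Etale)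
    (π : ∀ i, Z i ⟶ P) (hc : ∀ p, ∃ i, p ∈ Set.range (π i).left) :
    Presieve.IsSheafFor G.obj (Presieve.ofArrows Z π) := by
  have hmem : Sieve.ofArrows Z π ∈ S.smallEtaleTopology P := by
    rw [Scheme.ofArrows_mem_smallEtaleTopology_iff]
    exact Set.eq_univ_of_forall fun p => Set.mem_iUnion.mpr (hc p)
  rw [Presieve.isSheafFor_iff_generate]
  exact (isSheaf_iff_isSheaf_of_type _ _).mp G.property _ hmem

theorem set_ext_of_cover (G : Sheaf S.smallEtaleTopology (Type (u + 1))) {P : S.Etale} (s t : G.obj.obj (op P))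
    (h : ∀ p : P.left, ∃ (W : S.Etale) (g : W ⟶ P), p ∈ Set.range g.left ∧ G.obj.map g.op s = G.obj.map g.op t) :
    s = t := by
  choose W g hg he using h
  refine (set_isSheafFor G W g fun p => ⟨p, hg p⟩).isSeparatedFor.ext fun T f hf => ?_
  obtain ⟨p⟩ := hf
  exact he p

theorem set_amalg (G : Sheaf S.smallEtaleTopology (Type (u + 1))) {P : S.Etale} {ι : Type*} (Z : ι → S.Etale)
    (π : ∀ i, Z i ⟶ P) (hc : ∀ p, ∃ i, p ∈ Set.range (π i).left) (t : ∀ i, G.obj.obj (op (Z i)))
    (h : ∀ i k (T : S.Etale) (a : T ⟶ Z i) (b : T ⟶ Z k), a ≫ π i = b ≫ π k →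
      G.obj.map a.op (t i) = G.obj.map b.op (t k)) :
    ∃ s : G.obj.obj (op P), ∀ i, G.obj.map (π i).op s = t i := by
  have hs := set_isSheafFor G Z π hc
  rw [Presieve.isSheafFor_arrows_iff] at hs
  obtain ⟨s, hs, -⟩ := hs t h
  exact ⟨s, hs⟩

variable {J : Type (u + 1)} [SmallCategory J] [IsFiltered J] {K : J ⥤ Sheaf S.smallEtaleTopology (Type (u + 1))}
  {c : Cocone K} (hc : IsColimit c)

theorem app_w {K : J ⥤ Sheaf S.smallEtaleTopology (Type (u + 1))} (c : Cocone K) {j k : J} (a : j ⟶ k)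
    (V : S.Etaleᵒᵖ) (x : (K.obj j).obj.obj V) :
    (c.ι.app k).hom.app V ((K.map a).hom.app V x) = (c.ι.app j).hom.app V x := by
  rw [← c.w a]
  rfl

theorem app_of_eq {F G : S.Etaleᵒᵖ ⥤ Type (u + 1)} {a b : F ⟶ G} (h : a = b) (V : S.Etaleᵒᵖ) (x : F.obj V) :
    a.app V x = b.app V x := by
  rw [h]

include hc in
theorem set_cmp :
    ∃ (c' : Cocone (K ⋙ sheafToPresheaf S.smallEtaleTopology (Type (u + 1)))) (_ : IsColimit c')
      (θ : c'.pt ⟶ c.pt.obj), (∀ j, c'.ι.app j ≫ θ = (c.ι.app j).hom) ∧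
        Presheaf.IsLocallyInjective S.smallEtaleTopology θ ∧ Presheaf.IsLocallySurjective S.smallEtaleTopology θ := by
  let c' := colimit.cocone (K ⋙ sheafToPresheaf S.smallEtaleTopology (Type (u + 1)))
  let e := (Sheaf.isColimitSheafifyCocone c' (colimit.isColimit _)).coconePointUniqueUpToIso hc
  haveI : IsIso e.hom.hom := inferInstanceAs (IsIso ((sheafToPresheaf _ _).map e.hom))
  refine ⟨c', colimit.isColimit _, toSheafify S.smallEtaleTopology c'.pt ≫ e.hom.hom, fun j => ?_, ?_, ?_⟩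
  · rw [← Category.assoc, ← Sheaf.sheafifyCocone_ι_app_val]
    exact congrArg (fun m => m.hom)
      (IsColimit.comp_coconePointUniqueUpToIso_hom (Sheaf.isColimitSheafifyCocone c' (colimit.isColimit _)) hc j)
  · infer_instance
  · infer_instance

include hc in
theorem set_local_eq {U : S.Etale} {j : J} (s t : (K.obj j).obj.obj (op U))
    (h : (c.ι.app j).hom.app (op U) s = (c.ι.app j).hom.app (op U) t) (x : U.left) :
    ∃ (W : S.Etale) (g : W ⟶ U), x ∈ Set.range g.left ∧
      ∃ (k : J) (a : j ⟶ k), (K.map a).hom.app (op W) ((K.obj j).obj.map g.op s) =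
        (K.map a).hom.app (op W) ((K.obj j).obj.map g.op t) := by
  obtain ⟨c', hc', θ, hθ, hi, -⟩ := set_cmp hc
  have h0 : θ.app (op U) ((c'.ι.app j).app (op U) s) = θ.app (op U) ((c'.ι.app j).app (op U) t) :=
    (app_of_eq (hθ j) (op U) s).trans (h.trans (app_of_eq (hθ j) (op U) t).symm)
  obtain ⟨W, g, hg, hx⟩ := exists_of_mem (Presheaf.equalizerSieve_mem S.smallEtaleTopology θ _ _ h0) x
  refine ⟨W, g, hx, ?_⟩
  change c'.pt.map g.op ((c'.ι.app j).app (op U) s) = c'.pt.map g.op ((c'.ι.app j).app (op U) t) at hg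
  replace hg : (c'.ι.app j).app (op W) ((K.obj j).obj.map g.op s) = (c'.ι.app j).app (op W) ((K.obj j).obj.map g.op t) :=
    (NatTrans.naturality_apply (c'.ι.app j) g.op s).trans (hg.trans (NatTrans.naturality_apply (c'.ι.app j) g.op t).symm)
  have hW := isColimitOfPreserves ((evaluation S.Etaleᵒᵖ (Type (u + 1))).obj (op W)) hc'
  obtain ⟨k, a, b, hab⟩ := (Types.FilteredColimit.isColimit_eq_iff _ hW).mp hg
  let v := IsFiltered.coeqHom a b
  refine ⟨_, a ≫ v, ?_⟩
  rw [Functor.map_comp]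
  refine (congrArg ((K.map v).hom.app (op W)) hab).trans ?_
  show ((K.map b ≫ K.map v).hom.app (op W)) _ = _
  rw [← Functor.map_comp, ← IsFiltered.coeq_condition, Functor.map_comp]

include hc in
theorem set_local_rep {U : S.Etale} (t : c.pt.obj.obj (op U)) (x : U.left) :
    ∃ (W : S.Etale) (g : W ⟶ U), x ∈ Set.range g.left ∧
      ∃ (j : J) (s : (K.obj j).obj.obj (op W)), (c.ι.app j).hom.app (op W) s = c.pt.obj.map g.op t := by
  obtain ⟨c', hc', θ, hθ, -, hs⟩ := set_cmp hc
  obtain ⟨W, g, ⟨a, ha⟩, hx⟩ := exists_of_mem (hs.imageSieve_mem t) x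
  refine ⟨W, g, hx, ?_⟩
  have hW := isColimitOfPreserves ((evaluation S.Etaleᵒᵖ (Type (u + 1))).obj (op W)) hc'
  obtain ⟨j, s, rfl⟩ := Types.jointly_surjective _ hW a
  exact ⟨j, s, (app_of_eq (hθ j) (op W) s).symm.trans ha⟩

include hc in
theorem set_eq_of_compact {U : S.Etale} [CompactSpace U.left] {j : J} (s t : (K.obj j).obj.obj (op U))
    (h : (c.ι.app j).hom.app (op U) s = (c.ι.app j).hom.app (op U) t) :
    ∃ (k : J) (a : j ⟶ k), (K.map a).hom.app (op U) s = (K.map a).hom.app (op U) t := by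
  classical
  choose W g hx k a hz using set_local_eq hc s t h
  obtain ⟨F, hF⟩ := isCompact_univ.elim_finite_subcover (fun x => Set.range (g x).left)
    (fun x => by haveI := etale_left (g x); exact (g x).left.isOpenMap.isOpen_range)
    (fun x _ => Set.mem_iUnion.mpr ⟨x, hx x⟩)
  have hfin : ∀ G : Finset U.left, ∃ (m : J) (b : j ⟶ m), ∀ x ∈ G,
      (K.map b).hom.app (op (W x)) ((K.obj j).obj.map (g x).op s) =
        (K.map b).hom.app (op (W x)) ((K.obj j).obj.map (g x).op t) := by
    intro G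
    induction G using Finset.induction_on with
    | empty => exact ⟨j, 𝟙 j, by simp⟩
    | insert x G _ ih =>
      obtain ⟨m, b, hb⟩ := ih
      obtain ⟨l, u, v, huv⟩ := IsFiltered.span b (a x)
      refine ⟨l, b ≫ u, fun y hy => ?_⟩
      rcases Finset.mem_insert.mp hy with rfl | hy
      · rw [huv, Functor.map_comp]
        exact congrArg ((K.map v).hom.app (op (W y))) (hz y)
      · rw [Functor.map_comp]
        exact congrArg ((K.map u).hom.app (op (W y))) (hb y hy)
  obtain ⟨m, b, hb⟩ := hfin F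
  refine ⟨m, b, set_ext_of_cover (K.obj m) _ _ fun v => ?_⟩
  obtain ⟨x, hxF, hvx⟩ := Set.mem_iUnion₂.mp (hF (Set.mem_univ v))
  refine ⟨W x, g x, hvx, ?_⟩
  rw [← NatTrans.naturality_apply, ← NatTrans.naturality_apply]
  exact hb x hxF

include hc in
theorem set_rep {U : S.Etale} [CompactSpace U.left] [QuasiSeparatedSpace U.left] (t : c.pt.obj.obj (op U)) :
    ∃ (j : J) (s : (K.obj j).obj.obj (op U)), (c.ι.app j).hom.app (op U) s = t := by
  classical
  have hloc : ∀ x : U.left, ∃ (W : S.Etale) (g : W ⟶ U), Qcqs W ∧ x ∈ Set.range g.left ∧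
      ∃ (j : J) (s : (K.obj j).obj.obj (op W)), (c.ι.app j).hom.app (op W) s = c.pt.obj.map g.op t := by
    intro x
    obtain ⟨W, g, ⟨w, hw⟩, j, s, hs⟩ := set_local_rep hc t x
    obtain ⟨_, ⟨O, hO, rfl⟩, hwO, -⟩ := W.left.isBasis_affineOpens.exists_subset_of_mem_open
      (Set.mem_univ w) isOpen_univ
    have := W.prop
    let W' : S.Etale := Scheme.Etale.mk (Scheme.Opens.ι O ≫ W.hom)
    haveI : IsAffine W'.left := hO
    let i : W' ⟶ W := MorphismProperty.Over.homMk (Scheme.Opens.ι O) rfl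
    refine ⟨W', i ≫ g, qcqs_of_isAffine W', ⟨(⟨w, hwO⟩ : O), hw⟩, j, (K.obj j).obj.map i.op s, ?_⟩
    rw [NatTrans.naturality_apply, hs]
    exact (ConcreteCategory.congr_hom (c.pt.obj.map_comp g.op i.op) t).symm
  choose W g hW hx j s hs using hloc
  obtain ⟨F, hF⟩ := isCompact_univ.elim_finite_subcover (fun x => Set.range (g x).left)
    (fun x => by haveI := etale_left (g x); exact (g x).left.isOpenMap.isOpen_range)
    (fun x _ => Set.mem_iUnion.mpr ⟨x, hx x⟩)
  obtain ⟨m, hm⟩ := IsFiltered.sup_objs_exists (F.image j)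
  let σ : ∀ x : F, (K.obj m).obj.obj (op (W x.1)) := fun x =>
    (K.map (hm (Finset.mem_image_of_mem j x.2)).some).hom.app (op (W x.1)) (s x.1)
  have hσ : ∀ x : F, (c.ι.app m).hom.app (op (W x.1)) (σ x) = c.pt.obj.map (g x.1).op t := fun x => by
    rw [← hs x.1]
    exact app_w c _ _ (s x.1)
  let P : ∀ y : F × F, S.Etale := fun y => pb (g y.2.1) (g y.1.1)
  let p₁ : ∀ y, P y ⟶ W y.1.1 := fun y => pbFst (g y.2.1) (g y.1.1)
  let p₂ : ∀ y, P y ⟶ W y.2.1 := fun y => pbSnd (g y.2.1) (g y.1.1)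
  have hp : ∀ y, p₁ y ≫ g y.1.1 = p₂ y ≫ g y.2.1 := fun y => MorphismProperty.Over.Hom.ext pullback.condition
  have hover : ∀ G : Finset (F × F), ∃ (n : J) (e : m ⟶ n), ∀ y ∈ G,
      (K.map e).hom.app (op (P y)) ((K.obj m).obj.map (p₁ y).op (σ y.1)) =
        (K.map e).hom.app (op (P y)) ((K.obj m).obj.map (p₂ y).op (σ y.2)) := by
    intro G
    induction G using Finset.induction_on with
    | empty => exact ⟨m, 𝟙 m, by simp⟩
    | insert y G _ ih =>
      obtain ⟨n, e, he⟩ := ih
      haveI := (qcqs_pb (g y.2.1) (g y.1.1) (hW _) (hW _) ⟨‹_›, ‹_›⟩).1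
      obtain ⟨k, a, ha⟩ := set_eq_of_compact hc ((K.obj m).obj.map (p₁ y).op (σ y.1))
        ((K.obj m).obj.map (p₂ y).op (σ y.2)) (by
          rw [NatTrans.naturality_apply, NatTrans.naturality_apply, hσ, hσ]
          change c.pt.obj.map (p₁ y).op (c.pt.obj.map (g y.1.1).op t) = c.pt.obj.map (p₂ y).op (c.pt.obj.map (g y.2.1).op t)
          rw [← ConcreteCategory.comp_apply, ← ConcreteCategory.comp_apply, ← Functor.map_comp, ← Functor.map_comp,
            ← op_comp, ← op_comp, hp])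
      obtain ⟨l, u, v, huv⟩ := IsFiltered.span e a
      refine ⟨l, e ≫ u, fun z hz => ?_⟩
      rcases Finset.mem_insert.mp hz with rfl | hz
      · rw [huv, Functor.map_comp]
        exact congrArg ((K.map v).hom.app (op (P z))) ha
      · rw [Functor.map_comp]
        exact congrArg ((K.map u).hom.app (op (P z))) (he z hz)
  obtain ⟨n, e, he⟩ := hover Finset.univ
  have hcov : ∀ v : U.left, ∃ x : F, v ∈ Set.range (g x.1).left := fun v => by
    obtain ⟨x, hxF, hv⟩ := Set.mem_iUnion₂.mp (hF (Set.mem_univ v))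
    exact ⟨⟨x, hxF⟩, hv⟩
  obtain ⟨r, hr⟩ := set_amalg (K.obj n) (fun x : F => W x.1) (fun x => g x.1) hcov
    (fun x => (K.map e).hom.app (op (W x.1)) (σ x)) (fun x x' T a b hab => by
      let y : F × F := (x, x')
      let q : T ⟶ P y := MorphismProperty.Over.homMk
        (pullback.lift a.left b.left (congrArg (fun k => k.left) hab)) (by
          change pullback.lift _ _ _ ≫ pullback.fst (g x.1).left (g x'.1).left ≫ (W x.1).hom = T.hom
          rw [pullback.lift_fst_assoc]; exact MorphismProperty.Over.w a)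
      have h1 : q ≫ p₁ y = a := MorphismProperty.Over.Hom.ext (pullback.lift_fst _ _ _)
      have h2 : q ≫ p₂ y = b := MorphismProperty.Over.Hom.ext (pullback.lift_snd _ _ _)
      have h0 := he y (Finset.mem_univ _)
      rw [NatTrans.naturality_apply, NatTrans.naturality_apply] at h0
      rw [← h1, ← h2, op_comp, op_comp, Functor.map_comp, Functor.map_comp, ConcreteCategory.comp_apply,
        ConcreteCategory.comp_apply]
      exact congrArg ((K.obj n).obj.map q.op) h0)
  refine ⟨n, r, set_ext_of_cover c.pt _ _ fun v => ?_⟩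
  obtain ⟨x, hv⟩ := hcov v
  refine ⟨W x.1, g x.1, hv, ?_⟩
  refine (NatTrans.naturality_apply (c.ι.app n).hom (g x.1).op r).symm.trans ?_
  rw [hr, ← hσ]
  exact app_w c e _ (σ x)

theorem preservesColimitsOfShape_sections_set (U : S.Etale) (hU : Qcqs U) (J : Type (u + 1)) [SmallCategory J]
    [IsFiltered J] : PreservesColimitsOfShape J (sheafToPresheaf S.smallEtaleTopology (Type (u + 1)) ⋙
      (evaluation S.Etaleᵒᵖ (Type (u + 1))).obj (op U)) := by
  haveI := hU.1
  haveI := hU.2
  refine ⟨fun {K} => ⟨fun {c} hc => ⟨?_⟩⟩⟩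
  refine Types.FilteredColimit.isColimitOf _ _ (fun x => ?_) fun i j xi xj hij => ?_
  · obtain ⟨j, s, hs⟩ := set_rep hc (U := U) x
    exact ⟨j, s, hs.symm⟩
  · let l := IsFiltered.max i j
    let a := (K.map (IsFiltered.leftToMax i j)).hom.app (op U) xi
    let b := (K.map (IsFiltered.rightToMax i j)).hom.app (op U) xj
    have h : (c.ι.app l).hom.app (op U) a = (c.ι.app l).hom.app (op U) b := by
      refine (app_w c (IsFiltered.leftToMax i j) (op U) xi).trans ?_
      refine hij.trans ?_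
      exact (app_w c (IsFiltered.rightToMax i j) (op U) xj).symm
    obtain ⟨k, e, he⟩ := set_eq_of_compact hc a b h
    refine ⟨k, IsFiltered.leftToMax i j ≫ e, IsFiltered.rightToMax i j ≫ e, ?_⟩
    simp only [Functor.comp_map, Functor.map_comp]
    exact he

end Groth.Agent.EtColimH
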